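import Groth.Agent.FibConstr.Basic
import Groth.Agent.GenericFibreSpread.Dim
import Groth.Agent.FibDim.BcComponents

/-!
Dimension of fibres as a constructible property.
-/

universe u

open AlgebraicGeometry CategoryTheory Limits Topology

namespace Groth.Agent.FibConstr

open GeomUnib.FibreDimNhds

theorem dim_eq_of_isPullback_field {k K : Type u} [Field k] [Field K] {F G : Scheme.{u}} (f : F ⟶ Spec (CommRingCat.of k))
    [LocallyOfFiniteType f] (φ : CommRingCat.of k ⟶ CommRingCat.of K) {gF : G ⟶ F} {gK : G ⟶ Spec (CommRingCat.of K)}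
    (h : IsPullback gF gK f (Spec.map φ)) : topologicalKrullDim ↥G = topologicalKrullDim ↥F := by
  algebraize [φ.hom]
  rw [← FibDim.dim_bc f K]
  exact IsHomeomorph.topologicalKrullDim_eq _ (Scheme.homeoOfIso h.isoPullback).isHomeomorph

/-- The dimension of a fibre does not change along base change. -/
theorem dim_fibre_bc {X Y X' Y' : Scheme.{u}} (f : X ⟶ Y) [LocallyOfFiniteType f] (g : Y' ⟶ Y) (f' : X' ⟶ Y')
    (g' : X' ⟶ X) (h : IsPullback g' f' f g) (y : Y') :
    topologicalKrullDim ↥(f'.fiber y) = topologicalKrullDim ↥(f.fiber (g y)) := by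
  have hp := isPullback_fiberToSpecResidueField_of_isPullback h y
  haveI : LocallyOfFiniteType (f.fiberToSpecResidueField (g y)) := MorphismProperty.pullback_snd _ _ inferInstance
  exact dim_eq_of_isPullback_field (k := Y.residueField (g y)) (K := Y'.residueField y) (f.fiberToSpecResidueField (g y))
    (g.residueFieldMap y) hp

/-- The finite level sets of fibre dimension spread. -/
theorem spreads_le_dim (n : ℕ) :
    Spreads fun _ _ f y => (n : WithBot ℕ∞) ≤ topologicalKrullDim ↥(Scheme.Hom.fiber f y) where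
  bc _ _ _ _ f g f' g' h _ y := by rw [dim_fibre_bc f g f' g' h y]
  spread X Y f _ _ _ _ := by
    by_cases h : (n : WithBot ℕ∞) ≤ topologicalKrullDim ↥(f.fiber (genericPoint Y))
    · obtain ⟨w, hw, hnw⟩ := exists_le_fdim f h
      obtain ⟨m, hm⟩ := exists_bound_fdim f ((f.isCompact_preimage_singleton (genericPoint Y)))
      have hb : topologicalKrullDim ↥(f.fiber (genericPoint Y)) ≤ (m : WithBot ℕ∞) :=
        dim_fibre_le f fun z hz => hm z hz
      obtain ⟨k, hk⟩ : ∃ k : ℕ, topologicalKrullDim ↥(f.fiber (genericPoint Y)) = k := by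
        generalize topologicalKrullDim ↥(f.fiber (genericPoint Y)) = a at h hb
        induction a with
        | bot => exact absurd h (by simp)
        | coe a =>
          induction a using ENat.recTopCoe with
          | top => exact absurd (WithBot.coe_le_coe.1 hb) (by simp)
          | coe j => exact ⟨j, rfl⟩
      obtain ⟨V, hne, hV⟩ := GenericFibreSpread.exists_dim_fibre_eq f k hk
      exact ⟨V, hne, Or.inl fun y hy => by rw [hV y hy, ← hk]; exact h⟩
    · have hmax : ∀ a : Y, a ⤳ genericPoint Y → a = genericPoint Y := fun a ha =>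
        (ha.antisymm (genericPoint_specializes a)).eq
      obtain ⟨V, -, hη, hV⟩ := GenericFinite.exists_nhd_disjoint f hmax (isClosed_le_fibreDimAt f n)
        fun x hx he => h ((setOf_le_dim_eq_image f n).ge ⟨x, hx, he⟩)
      refine ⟨V, ⟨_, hη⟩, Or.inr fun y hy hd => ?_⟩
      obtain ⟨x, hx, rfl⟩ := (setOf_le_dim_eq_image f n).le hd
      exact hV x hx hy

theorem isLocallyConstructible_compl {X : Type u} [TopologicalSpace X] {s : Set X} (h : IsLocallyConstructible s) :
    IsLocallyConstructible sᶜ := fun x => by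
  obtain ⟨U, hU, hUo, hUs⟩ := h x
  exact ⟨U, hU, hUo, hUs.compl⟩

theorem le_dim_iff_exists {X Y : Scheme.{u}} (f : X ⟶ Y) [LocallyOfFiniteType f] {V : Y.Opens}
    {t : Finset X.affineOpens} (ht : ∀ U ∈ t, (U : X.Opens) ≤ f ⁻¹ᵁ V)
    (hcov : ∀ x, f x ∈ V → ∃ U ∈ t, x ∈ (U : X.Opens)) (n : ℕ) (y : (V : Scheme.{u})) :
    (n : WithBot ℕ∞) ≤ topologicalKrullDim ↥(f.fiber y.1) ↔
      ∃ U : t, (n : WithBot ℕ∞) ≤ topologicalKrullDim ↥((f.resLE V U.1.1 (ht _ U.2)).fiber y) := by
  have key : ∀ (U : t), topologicalKrullDim ↥((f.resLE V U.1.1 (ht _ U.2)).fiber y) =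
      topologicalKrullDim ↥((U.1.1 : Set X) ∩ f.base ⁻¹' {y.1}) := fun U => by
    rw [dim_fibre_eq, ← FibreDim.dim_image U.1.1.ι.isOpenEmbedding.isEmbedding]
    have himg : U.1.1.ι.base '' ((f.resLE V U.1.1 (ht _ U.2)).base ⁻¹' {y}) = (U.1.1 : Set X) ∩ f.base ⁻¹' {y.1} := by
      ext x
      constructor
      · rintro ⟨z, hz, rfl⟩
        refine ⟨z.2, ?_⟩
        show f (U.1.1.ι z) = y.1
        rw [← Scheme.Hom.comp_apply, ← Scheme.Hom.resLE_comp_ι (e := ht _ U.2), Scheme.Hom.comp_apply,
          show f.resLE V U.1.1 (ht _ U.2) z = y from hz]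
        rfl
      · rintro ⟨hxU, hx⟩
        refine ⟨⟨x, hxU⟩, V.ι.isOpenEmbedding.injective ?_, rfl⟩
        rw [← Scheme.Hom.comp_apply, Scheme.Hom.resLE_comp_ι, Scheme.Hom.comp_apply]
        exact hx
    rw [himg]
  constructor
  · intro h
    obtain ⟨w, hw, hnw⟩ := exists_le_fdim f h
    obtain ⟨U, hU, hwU⟩ := hcov w (show f w ∈ V from hw.symm ▸ y.2)
    refine ⟨⟨U, hU⟩, ?_⟩
    rw [key]
    refine hnw.trans ?_
    have := FibreDim.fdim_le_dim_inter f (Z := Set.univ) isClosed_univ U.1.2 y.1 w trivial hwU hw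
    rwa [Set.univ_inter, Set.inter_comm] at this
  · rintro ⟨U, hU⟩
    rw [key] at hU
    rw [dim_fibre_eq]
    exact hU.trans (FibreDim.dim_mono Set.inter_subset_right)

/-- Each level set of the fibre dimension of a morphism of finite presentation is locally constructible. -/
theorem isLocallyConstructible_le_dim {X Y : Scheme.{u}} (f : X ⟶ Y) [LocallyOfFinitePresentation f] [QuasiCompact f]
    (n : ℕ) : IsLocallyConstructible {y : Y | (n : WithBot ℕ∞) ≤ topologicalKrullDim ↥(f.fiber y)} := by
  refine IsLocallyConstructible.of_isOpenCover (U := fun V : Y.affineOpens => (V : Y.Opens)) (iSup_affineOpens_eq_top Y) ?_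
  intro V
  obtain ⟨t, ht, hcov⟩ := FibreND.exists_finite_cover f V.2
  refine (congrArg IsLocallyConstructible (?_ : _ =
      ⋃ U : t, {y : (V : Y.Opens) | (n : WithBot ℕ∞) ≤ topologicalKrullDim ↥((f.resLE V U.1.1 (ht _ U.2)).fiber y)})).mpr ?_
  · exact Set.ext fun y => (le_dim_iff_exists f ht hcov n y).trans (Set.mem_iUnion (s := fun U : t => {y : (V : Y.Opens) | (n : WithBot ℕ∞) ≤ topologicalKrullDim ↥((f.resLE V U.1.1 (ht _ U.2)).fiber y)}) (x := y)).symm
  exact IsLocallyConstructible.iUnion fun U => isLocallyConstructible_resLE (spreads_le_dim n) f V.2 U.1.2 (ht _ U.2)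

theorem isLocallyConstructible_dim_eq {X Y : Scheme.{u}} (f : X ⟶ Y) [LocallyOfFinitePresentation f] [QuasiCompact f]
    (a : WithBot ℕ∞) : IsLocallyConstructible {y : Y | topologicalKrullDim ↥(f.fiber y) = a} := by
  induction a with
  | bot =>
    have e : {y : Y | topologicalKrullDim ↥(f.fiber y) = ⊥} =
        {y : Y | ((0 : ℕ) : WithBot ℕ∞) ≤ topologicalKrullDim ↥(f.fiber y)}ᶜ := by
      ext y
      simp only [Set.mem_setOf_eq, Set.mem_compl_iff, Nat.cast_zero]
      generalize topologicalKrullDim ↥(f.fiber y) = b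
      cases b with
      | bot => simp
      | coe b => simp
    rw [e]
    exact isLocallyConstructible_compl (isLocallyConstructible_le_dim f 0)
  | coe a =>
    induction a using ENat.recTopCoe with
    | top =>
      have e : {y : Y | topologicalKrullDim ↥(f.fiber y) = ((⊤ : ℕ∞) : WithBot ℕ∞)} = ∅ := by
        refine Set.eq_empty_of_forall_notMem fun y hy => ?_
        obtain ⟨m, hm⟩ := exists_bound_fdim f (f.isCompact_preimage_singleton y)
        have := (hy.ge.trans (dim_fibre_le f fun z hz => hm z hz))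
        exact absurd (WithBot.coe_le_coe.1 this) (by simp)
      rw [e]
      exact IsLocallyConstructible.empty
    | coe k =>
      have e : {y : Y | topologicalKrullDim ↥(f.fiber y) = ((k : ℕ∞) : WithBot ℕ∞)} =
          {y : Y | (k : WithBot ℕ∞) ≤ topologicalKrullDim ↥(f.fiber y)} ∩
            {y : Y | ((k + 1 : ℕ) : WithBot ℕ∞) ≤ topologicalKrullDim ↥(f.fiber y)}ᶜ := by
        ext y
        simp only [Set.mem_setOf_eq, Set.mem_inter_iff, Set.mem_compl_iff]
        generalize topologicalKrullDim ↥(f.fiber y) = b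
        cases b with
        | bot => simp
        | coe b =>
          induction b using ENat.recTopCoe with
          | top => norm_cast; simp
          | coe j => norm_cast; omega
      rw [e]
      exact (isLocallyConstructible_le_dim f k).inter (isLocallyConstructible_compl (isLocallyConstructible_le_dim f (k + 1)))

/-- Over a one-point base the fibre is everything. -/
theorem dim_eq_dim_fibre {Y T : Scheme.{u}} (g : Y ⟶ T) [Subsingleton T] (t : T) :
    topologicalKrullDim ↥Y = topologicalKrullDim ↥(g.fiber t) := by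
  rw [dim_fibre_eq]
  have e : g.base ⁻¹' {t} = Set.univ := Set.eq_univ_of_forall fun x => Subsingleton.elim _ _
  rw [e]
  exact (IsHomeomorph.topologicalKrullDim_eq _ (Homeomorph.Set.univ Y).isHomeomorph).symm

/-- Near the generic point the fibre dimension is constant. -/
theorem exists_nhd_dim_eq {X S : Scheme.{u}} (f : X ⟶ S) [IrreducibleSpace S] [LocallyOfFiniteType f] [QuasiCompact f] :
    ∃ V : S.Opens, (V : Set S).Nonempty ∧
      ∀ y ∈ V, topologicalKrullDim ↥(f.fiber y) = topologicalKrullDim ↥(f.fiber (genericPoint S)) := by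
  generalize ha : topologicalKrullDim ↥(f.fiber (genericPoint S)) = a
  induction a with
  | bot =>
    have hmax : ∀ b : S, b ⤳ genericPoint S → b = genericPoint S := fun b hb =>
      (hb.antisymm (genericPoint_specializes b)).eq
    have h0 : ∀ x ∈ (Set.univ : Set X), f x ≠ genericPoint S := fun x _ hx => by
      have := fdim_le_dim_fibre f x hx
      rw [ha, le_bot_iff, FibreDim.fdim, topologicalKrullDim, Order.krullDim_eq_bot_iff] at this
      refine this.false ⟨closure {⟨x, subset_closure rfl, rfl⟩}, isIrreducible_singleton.closure, isClosed_closure⟩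
    obtain ⟨V, -, hη, hV⟩ := GenericFinite.exists_nhd_disjoint f hmax isClosed_univ h0
    refine ⟨V, ⟨_, hη⟩, fun y hy => ?_⟩
    rw [topologicalKrullDim, Order.krullDim_eq_bot_iff]
    refine ⟨fun Z => ?_⟩
    obtain ⟨z, -⟩ := Z.isIrreducible.nonempty
    exact hV (f.fiberι y z) trivial (((f.range_fiberι y).le ⟨z, rfl⟩ : f (f.fiberι y z) = y).symm ▸ hy)
  | coe a =>
    induction a using ENat.recTopCoe with
    | top =>
      obtain ⟨m, hm⟩ := exists_bound_fdim f (f.isCompact_preimage_singleton (genericPoint S))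
      exact absurd (WithBot.coe_le_coe.1 (ha.ge.trans (dim_fibre_le f fun z hz => hm z hz))) (by simp)
    | coe k => exact GenericFibreSpread.exists_dim_fibre_eq f k ha

end Groth.Agent.FibConstr
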