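import Groth.Agent.FibConstr.Dim
import Groth.Agent.FibreSemi.Basic
import Groth.Agent.GeomUnib.SectionRestrict
import Groth.Agent.FibrewiseCrit.Basic

/-!
Quasi-finiteness and radiciality of the morphisms induced on fibres.
-/

set_option autoImplicit false

universe u

open AlgebraicGeometry CategoryTheory Limits Topology TopologicalSpace

namespace Groth.Agent.FibConstr

/-- The fibre dimension is invariant under base change. -/
theorem fibreDimAt_of_isPullback {X Y X' Y' : Scheme.{u}} {f : X ⟶ Y} [LocallyOfFiniteType f] {g : Y' ⟶ Y}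
    {f' : X' ⟶ Y'} {g' : X' ⟶ X} (h : IsPullback g' f' f g) (x : X') :
    FlatMor.fibreDimAt f' x = FlatMor.fibreDimAt f (g' x) := by
  haveI : LocallyOfFiniteType f' := MorphismProperty.of_isPullback h inferInstance
  have e := GeomUnib.SectionBC.fibreDimAt_bc f g (h.isoPullback.hom x)
  rw [← GeomUnib.SectionBC.fibreDimAt_restrict (f := pullback.snd f g) (f' := f')
    (j := h.isoPullback.hom) (i := 𝟙 _) (by simp) x] at e
  refine e.trans ?_
  rw [← Scheme.Hom.comp_apply, IsPullback.isoPullback_hom_fst]

/-- Local quasi-finiteness in terms of fibre dimensions. -/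
theorem locallyQuasiFinite_iff_fibreDimAt {X Y : Scheme.{u}} (f : X ⟶ Y) [LocallyOfFiniteType f] :
    LocallyQuasiFinite f ↔ ∀ x, FlatMor.fibreDimAt f x ≤ 0 := by
  constructor
  · intro _ x
    exact (FibreSemi.dim_fiber_le_iff f (f x) 0).1 (topologicalKrullDim_zero_of_discreteTopology _) x rfl
  · intro h
    refine locallyQuasiFinite_iff_isDiscrete_preimage_singleton.2 fun y => ?_
    haveI : LocallyOfFiniteType (f.fiberToSpecResidueField y) := MorphismProperty.pullback_snd _ _ inferInstance
    haveI : IsLocallyNoetherian (f.fiber y) := LocallyOfFiniteType.isLocallyNoetherian (f.fiberToSpecResidueField y)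
    haveI : IsLocallyArtinian (f.fiber y) :=
      IsLocallyArtinian.of_topologicalKrullDim_le_zero ((FibreSemi.dim_fiber_le_iff f y 0).2 fun x _ => h x)
    exact isDiscrete_iff_discreteTopology.2 (f.fiberHomeo y).discreteTopology

/-- Local quasi-finiteness of a base change is read on the original morphism. -/
theorem locallyQuasiFinite_iff_of_isPullback {X Y P Q : Scheme.{u}} {f : X ⟶ Y} [LocallyOfFiniteType f] {b : Q ⟶ Y}
    {φ : P ⟶ Q} {a : P ⟶ X} (h : IsPullback a φ f b) :
    LocallyQuasiFinite φ ↔ ∀ x, f x ∈ Set.range b → FlatMor.fibreDimAt f x ≤ 0 := by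
  haveI : LocallyOfFiniteType φ := MorphismProperty.of_isPullback h inferInstance
  rw [locallyQuasiFinite_iff_fibreDimAt]
  refine ⟨fun H x hx => ?_, fun H p => ?_⟩
  · obtain ⟨q, hq⟩ := hx
    obtain ⟨p, hp, -⟩ := Scheme.exists_preimage_of_isPullback h x q hq.symm
    exact hp ▸ fibreDimAt_of_isPullback h p ▸ H p
  · rw [fibreDimAt_of_isPullback h p]
    exact H _ ⟨φ p, by rw [← Scheme.Hom.comp_apply, ← Scheme.Hom.comp_apply, h.w]⟩

/-- Radiciality of the base change along a monomorphism is read on the diagonal of the original morphism. -/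
theorem universallyInjective_iff_of_isPullback {X Y P Q : Scheme.{u}} {f : X ⟶ Y} {b : Q ⟶ Y} [Mono b]
    {φ : P ⟶ Q} {a : P ⟶ X} (h : IsPullback a φ f b) :
    UniversallyInjective φ ↔
      ∀ z : (pullback f f : Scheme.{u}), f (pullback.fst f f z) ∈ Set.range b → z ∈ Set.range (pullback.diagonal f) := by
  haveI : Mono a := (MorphismProperty.monomorphisms _).of_isPullback h.flip ‹Mono b›
  let m : pullback φ φ ⟶ pullback f f := pullback.map φ φ f f a a b h.w.symm h.w.symm
  have hm₁ : m ≫ pullback.fst f f = pullback.fst φ φ ≫ a := pullback.lift_fst _ _ _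
  have hm₂ : m ≫ pullback.snd f f = pullback.snd φ φ ≫ a := pullback.lift_snd _ _ _
  have hm : pullback.diagonal φ ≫ m = a ≫ pullback.diagonal f := by
    apply pullback.hom_ext <;> simp [hm₁, hm₂]
  have hsq : IsPullback a (pullback.diagonal φ) (pullback.diagonal f) m := by
    refine IsPullback.of_isLimit' ⟨hm.symm⟩ (PullbackCone.IsLimit.mk _ (fun s => s.snd ≫ pullback.fst φ φ) ?_ ?_ ?_)
    · intro s
      have := congrArg (· ≫ pullback.fst f f) s.condition
      simpa [hm₁] using this.symm
    · intro s
      have h1 := congrArg (· ≫ pullback.fst f f) s.condition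
      have h2 := congrArg (· ≫ pullback.snd f f) s.condition
      simp [hm₁, hm₂] at h1 h2
      apply pullback.hom_ext
      · simp
      · rw [← cancel_mono a]
        simp [← h1, ← h2]
    · intro s l h1 h2
      have := congrArg (· ≫ pullback.fst φ φ) h2
      simpa using this
  rw [UniversallyInjective.iff_diagonal]
  constructor
  · intro hs z hz
    obtain ⟨q, hq⟩ := hz
    let π : pullback f f ⟶ Y := pullback.fst f f ≫ f
    obtain ⟨t, ht, -⟩ := Scheme.Pullback.exists_preimage_pullback (f := π) (g := b) z q hq.symm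
    let w : pullback π b ⟶ pullback φ φ := pullback.lift
      (h.lift (pullback.fst π b ≫ pullback.fst f f) (pullback.snd π b) (by rw [Category.assoc]; exact pullback.condition))
      (h.lift (pullback.fst π b ≫ pullback.snd f f) (pullback.snd π b)
        (by rw [Category.assoc, ← pullback.condition]; exact pullback.condition))
      (by simp)
    have hw : w ≫ m = pullback.fst π b := by
      apply pullback.hom_ext
      · rw [Category.assoc, hm₁, pullback.lift_fst_assoc, IsPullback.lift_fst]
      · rw [Category.assoc, hm₂, pullback.lift_snd_assoc, IsPullback.lift_fst]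
    obtain ⟨p, hp⟩ := hs.1 (w t)
    refine ⟨a p, ?_⟩
    rw [← Scheme.Hom.comp_apply, ← hm, Scheme.Hom.comp_apply, hp, ← Scheme.Hom.comp_apply, hw]
    exact ht
  · intro H
    refine ⟨fun w => ?_⟩
    obtain ⟨x, hx⟩ := H (m w) ⟨φ (pullback.fst φ φ w), by
      have e : (m ≫ pullback.fst f f) ≫ f = pullback.fst φ φ ≫ φ ≫ b := by rw [hm₁, Category.assoc, h.w]
      exact congr($(e.symm) w)⟩
    obtain ⟨p, -, hp⟩ := Scheme.exists_preimage_of_isPullback hsq x w hx
    exact ⟨p, hp⟩

/-- The morphism induced on fibres is a base change. -/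
theorem isPullback_lift_fibre {X Y S T : Scheme.{u}} (f : X ⟶ Y) (g : Y ⟶ S) (t : T ⟶ S)
    (w : (pullback.fst (f ≫ g) t ≫ f) ≫ g = pullback.snd (f ≫ g) t ≫ t) :
    IsPullback (pullback.fst (f ≫ g) t) (pullback.lift (pullback.fst (f ≫ g) t ≫ f) (pullback.snd (f ≫ g) t) w) f
      (pullback.fst g t) :=
  IsPullback.of_bot (by rw [pullback.lift_snd]; exact IsPullback.of_hasPullback (f ≫ g) t)
    (pullback.lift_fst _ _ _).symm (IsPullback.of_hasPullback g t)

theorem isPullback_fiberMap {X Y S : Scheme.{u}} (f : X ⟶ Y) (g : Y ⟶ S) (s : S) :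
    IsPullback ((f ≫ g).fiberι s)
      (pullback.lift ((f ≫ g).fiberι s ≫ f) ((f ≫ g).fiberToSpecResidueField s)
        (by rw [Category.assoc]; exact (f ≫ g).fiber_fac s)) f (g.fiberι s) :=
  isPullback_lift_fibre f g (S.fromSpecResidueField s) _

/-- The points of the base over which the induced morphism of fibres is not quasi-finite. -/
theorem setOf_locallyQuasiFinite_eq {X Y S : Scheme.{u}} (f : X ⟶ Y) (g : Y ⟶ S) [LocallyOfFiniteType f]
    (φ : ∀ s, (f ≫ g).fiber s ⟶ g.fiber s)
    (hφ : ∀ s, IsPullback ((f ≫ g).fiberι s) (φ s) f (g.fiberι s)) :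
    {s : S | LocallyQuasiFinite (φ s)} = ((f ≫ g) '' {x : X | FlatMor.fibreDimAt f x ≤ 0}ᶜ)ᶜ := by
  ext s
  show LocallyQuasiFinite (φ s) ↔ _
  rw [locallyQuasiFinite_iff_of_isPullback (hφ s), g.range_fiberι]
  constructor
  · rintro H ⟨x, hx, rfl⟩
    exact hx (H x rfl)
  · intro H x hx
    by_contra hc
    exact H ⟨x, hc, hx⟩

theorem setOf_universallyInjective_eq {X Y S : Scheme.{u}} (f : X ⟶ Y) (g : Y ⟶ S)
    (φ : ∀ s, (f ≫ g).fiber s ⟶ g.fiber s)
    (hφ : ∀ s, IsPullback ((f ≫ g).fiberι s) (φ s) f (g.fiberι s)) :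
    {s : S | UniversallyInjective (φ s)} =
      ((pullback.fst f f ≫ f ≫ g) '' (Set.range (pullback.diagonal f))ᶜ)ᶜ := by
  ext s
  show UniversallyInjective (φ s) ↔ _
  rw [universallyInjective_iff_of_isPullback (hφ s), g.range_fiberι]
  constructor
  · rintro H ⟨z, hz, rfl⟩
    exact hz (H z rfl)
  · intro H z hz
    by_contra hc
    exact H ⟨z, hc, hz⟩

/-- A retrocompact open is locally constructible, so is its complement, and so is the image of the latter. -/
theorem isLocallyConstructible_setOf_lqf {X Y S : Scheme.{u}} (f : X ⟶ Y) (g : Y ⟶ S)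
    [LocallyOfFinitePresentation g] [QuasiCompact g] [QuasiSeparated g]
    [LocallyOfFinitePresentation (f ≫ g)] [QuasiCompact (f ≫ g)]
    (φ : ∀ s, (f ≫ g).fiber s ⟶ g.fiber s)
    (hφ : ∀ s, IsPullback ((f ≫ g).fiberι s) (φ s) f (g.fiberι s))
    (hret : IsRetrocompact {x : X | FlatMor.fibreDimAt f x ≤ 0}) :
    IsLocallyConstructible {s : S | LocallyQuasiFinite (φ s)} := by
  haveI : LocallyOfFiniteType f := locallyOfFiniteType_of_comp f g
  rw [setOf_locallyQuasiFinite_eq f g φ hφ]
  exact isLocallyConstructible_compl ((f ≫ g).isLocallyConstructible_image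
    (isLocallyConstructible_compl (hret.isLocallyConstructible (FibreSemi.isOpen_le f 0))))

theorem isLocallyConstructible_setOf_universallyInjective {X Y S : Scheme.{u}} (f : X ⟶ Y) (g : Y ⟶ S)
    [LocallyOfFinitePresentation g] [QuasiCompact g] [QuasiSeparated g]
    [LocallyOfFinitePresentation (f ≫ g)] [QuasiCompact (f ≫ g)] [QuasiSeparated (f ≫ g)]
    (φ : ∀ s, (f ≫ g).fiber s ⟶ g.fiber s)
    (hφ : ∀ s, IsPullback ((f ≫ g).fiberι s) (φ s) f (g.fiberι s)) :
    IsLocallyConstructible {s : S | UniversallyInjective (φ s)} := by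
  haveI : LocallyOfFinitePresentation f := FibrewiseCrit.locallyOfFinitePresentation_of_comp f g inferInstance inferInstance
  haveI : QuasiSeparated f := QuasiSeparated.of_comp f g
  haveI : QuasiCompact f := QuasiCompact.of_comp f g
  rw [setOf_universallyInjective_eq f g φ hφ]
  refine isLocallyConstructible_compl ((pullback.fst f f ≫ f ≫ g).isLocallyConstructible_image
    (isLocallyConstructible_compl ?_))
  haveI : LocallyOfFinitePresentation (pullback.diagonal f) :=
    FibrewiseCrit.locallyOfFinitePresentation_of_comp _ (pullback.fst f f) (by rw [pullback.diagonal_fst]; infer_instance) inferInstance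
  rw [← Set.image_univ]
  exact (pullback.diagonal f).isLocallyConstructible_image IsLocallyConstructible.univ

/-- In an irreducible Noetherian space a constructible set or its complement contains a nonempty open. -/
theorem interior_or_interior_compl {S : Type u} [TopologicalSpace S] [NoetherianSpace S] [IrreducibleSpace S]
    {E : Set S} (hE : IsConstructible E) : (interior E).Nonempty ∨ (interior Eᶜ).Nonempty := by
  induction hE using IsConstructible.empty_union_induction with
  | open_retrocompact U hU _ =>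
    rcases U.eq_empty_or_nonempty with he | hne
    · exact Or.inr (by simp [he])
    · exact Or.inl (by rwa [hU.interior_eq])
  | union s _ t _ hs ht =>
    rcases hs with hs | hs
    · exact Or.inl (hs.mono (interior_mono Set.subset_union_left))
    rcases ht with ht | ht
    · exact Or.inl (ht.mono (interior_mono Set.subset_union_right))
    refine Or.inr ?_
    rw [Set.compl_union, interior_inter]
    exact nonempty_preirreducible_inter isOpen_interior isOpen_interior hs ht
  | compl s _ hs =>
    rw [compl_compl]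
    exact hs.symm

/-- Universal injectivity descends along surjective base changes. -/
theorem universallyInjective_of_surjective {X Y X' Y' : Scheme.{u}} {f : X ⟶ Y} {f' : X' ⟶ Y'} {eX : X' ⟶ X}
    {eY : Y' ⟶ Y} (h : IsPullback eX f' f eY) [Surjective eY] [UniversallyInjective f'] : UniversallyInjective f := by
  refine ⟨fun X₁ Y₁ i₁ i₂ f₁ hsq => ?_⟩
  intro x₁ x₂ e
  let p := pullback.fst i₂ eY
  let q := pullback.snd i₂ eY
  obtain ⟨y, hy⟩ := p.surjective (f₁ x₁)
  obtain ⟨a₁, ha₁, ha₁'⟩ := Scheme.Pullback.exists_preimage_pullback (f := f₁) (g := p) x₁ y hy.symm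
  obtain ⟨a₂, ha₂, ha₂'⟩ := Scheme.Pullback.exists_preimage_pullback (f := f₁) (g := p) x₂ y (e.symm.trans hy.symm)
  have hbig : IsPullback (pullback.fst f₁ p ≫ i₁) (pullback.snd f₁ p) f (q ≫ eY) := by
    have := (IsPullback.of_hasPullback f₁ p).paste_horiz hsq.flip
    rwa [pullback.condition] at this
  let l := h.lift (pullback.fst f₁ p ≫ i₁) (pullback.snd f₁ p ≫ q) (by rw [hbig.w, Category.assoc])
  have hl : IsPullback l (pullback.snd f₁ p) f' q :=
    IsPullback.of_right (by simpa [l] using hbig) (by simp [l]) h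
  haveI : UniversallyInjective (pullback.snd f₁ p) := MorphismProperty.of_isPullback hl inferInstance
  rw [← ha₁, ← ha₂, (pullback.snd f₁ p).injective (ha₁'.trans ha₂'.symm)]

end Groth.Agent.FibConstr
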