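import Groth.Agent.FibConstr.RingColim
import Groth.Agent.LimLib.EventualBase
import Groth.Agent.FibrewiseCrit.Basic

/-!
Descent of properties of morphisms given by ring-theoretic properties, which are local at the source
and at the target: flat, smooth, etale, unramified. Only the source is required to be quasi-compact.
-/

set_option autoImplicit false
set_option backward.isDefEq.respectTransparency.types false

universe u

open AlgebraicGeometry CategoryTheory Limits

namespace Groth.Agent.FibConstr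

variable {I : Type u} [SmallCategory I] [IsCofiltered I] {D : I ⥤ Scheme.{u}}
  [∀ {i j : I} (f : i ⟶ j), IsAffineHom (D.map f)] {c : Cone D}

/-- Postcomposing both legs with a monomorphism does not change a pullback. -/
theorem isPullback_comp_mono {A B S T Z : Scheme.{u}} {fst : A ⟶ B} {snd : A ⟶ Z} {a : B ⟶ S}
    {b : Z ⟶ S} (H : IsPullback fst snd a b) (m : S ⟶ T) [Mono m] :
    IsPullback fst snd (a ≫ m) (b ≫ m) := by
  refine ⟨⟨by rw [reassoc_of% H.w]⟩, ⟨PullbackCone.IsLimit.mk _ (fun s => H.lift s.fst s.snd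
    ((cancel_mono m).1 (by simpa using s.condition))) (fun s => H.lift_fst _ _ _)
    (fun s => H.lift_snd _ _ _) fun s l h1 h2 => H.hom_ext ?_ ?_⟩⟩
  · rw [H.lift_fst]; exact h1
  · rw [H.lift_snd]; exact h2

theorem exists_stage_affine_piece {H P : MorphismProperty Scheme.{u}} [P.IsStableUnderBaseChange]
    (hd : AffineDescends H P) (hc : IsLimit c) {i : I} {V : Scheme.{u}} [IsAffine V] (h : V ⟶ D.obj i)
    {U : (D.obj i).Opens} (hU : IsAffineOpen U) (hrange : ∀ x, h x ∈ U)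
    (hH : ∀ {T : Scheme.{u}} (h' : V ⟶ T) (m : T ⟶ D.obj i) [IsOpenImmersion m], h' ≫ m = h → H h')
    (hl : P (pullback.fst (c.π.app i) h)) :
    ∃ j : Over i, ∀ k, (k ⟶ j) → P (pullback.fst ((D.map k.hom ⁻¹ᵁ U).ι ≫ D.map k.hom) h) := by
  haveI : ∀ j : Over i, IsAffine ((opensDiagram D i U).obj j) := fun j => hU.preimage (D.map _)
  let o : Over i := Over.mk (𝟙 i)
  let ιo : (opensDiagram D i U).obj o ⟶ D.obj i := (opensDiagramι D i U).app o ≫ D.map o.hom
  haveI : IsOpenImmersion ιo := by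
    haveI : IsIso (D.map o.hom) := by
      show IsIso (D.map (𝟙 i))
      rw [D.map_id]; infer_instance
    show IsOpenImmersion ((D.map o.hom ⁻¹ᵁ U).ι ≫ D.map o.hom)
    infer_instance
  have hιo : ιo = (D.map o.hom ⁻¹ᵁ U).ι := by
    show (D.map o.hom ⁻¹ᵁ U).ι ≫ D.map (𝟙 i) = _
    erw [D.map_id, Category.comp_id]
  have hr : Set.range h ⊆ Set.range ιo := by
    rintro _ ⟨x, rfl⟩
    rw [hιo]
    erw [Scheme.Opens.range_ι]
    show D.map (𝟙 i) (h x) ∈ U
    rw [D.map_id]
    exact hrange x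
  let h' := IsOpenImmersion.lift ιo h hr
  have hfac : h' ≫ ιo = h := IsOpenImmersion.lift_fac _ _ _
  have key : ∀ {W : Scheme.{u}} (a : W ⟶ (opensDiagram D i U).obj o),
      P (pullback.fst a h') ↔ P (pullback.fst (a ≫ ιo) h) := fun a =>
    prop_fst_iff_of_isPullback P (by
      have := isPullback_comp_mono (IsPullback.of_hasPullback a h') ιo
      rwa [hfac] at this)
  have w : (opensCone D c i U).π.app o ≫ ιo = (c.π.app i ⁻¹ᵁ U).ι ≫ c.π.app i := by
    simp [ιo, o]
    exact Scheme.Hom.resLE_comp_ι _ _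
  obtain ⟨m, hm⟩ := hd (isLimitOpensCone D c hc i U) (hH h' ιo hfac)
    ((key _).2 ((prop_fst_congr P w h).2 (prop_fst_comp P _ _ _ hl)))
  rw [key] at hm
  refine ⟨m.left, fun k ψ => ?_⟩
  have h1 := prop_fst_comp P ((opensDiagram D i U).map ψ) _ h hm
  refine (prop_fst_congr P ?_ h).1 h1
  have hk : ψ.left ≫ m.hom.left ≫ o.hom = k.hom := by
    rw [Over.w m.hom]; exact Over.w ψ
  refine (resLE_resLE_ι (D.map ψ.left) (D.map m.hom.left) (D.map o.hom) _ _).trans ?_
  exact congrArg (_ ≫ ·) (((congrArg (_ ≫ ·) (D.map_comp _ _).symm).trans (D.map_comp _ _).symm).trans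
    (congrArg D.map hk))

/-- Descent of properties local at the source and at the target. -/
theorem exists_stage_of_local (P : MorphismProperty Scheme.{u}) [P.IsStableUnderBaseChange]
    [P.IsStableUnderComposition] [IsZariskiLocalAtSource P] [IsZariskiLocalAtTarget P]
    (hoi : ∀ {A B : Scheme.{u}} (f : A ⟶ B) [IsOpenImmersion f], P f)
    (hd : AffineDescends @LocallyOfFinitePresentation P) (hc : IsLimit c) {i : I} {Z : Scheme.{u}}
    [CompactSpace Z] (h : Z ⟶ D.obj i) (hH : LocallyOfFinitePresentation h)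
    (hl : P (pullback.fst (c.π.app i) h)) :
    ∃ j : Over i, P (pullback.fst (D.map j.hom) h) := by
  haveI := hH
  let S := {a : Z.affineOpens × (D.obj i).affineOpens // ∀ x ∈ a.1.1, h x ∈ a.2.1}
  obtain ⟨s, hs⟩ := isCompact_univ.elim_finite_subcover (fun a : S => (a.1.1.1 : Set Z))
    (fun a => a.1.1.1.2) (fun x _ => by
      obtain ⟨_, ⟨U, hU, rfl⟩, hxU, -⟩ :=
        (D.obj i).isBasis_affineOpens.exists_subset_of_mem_open (Set.mem_univ (h x)) isOpen_univ
      obtain ⟨_, ⟨V, hV, rfl⟩, hxV, hVU⟩ :=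
        Z.isBasis_affineOpens.exists_subset_of_mem_open hxU (h ⁻¹ᵁ U).2
      exact Set.mem_iUnion.2 ⟨⟨(⟨V, hV⟩, ⟨U, hU⟩), fun x hx => hVU hx⟩, hxV⟩)
  have hpiece : ∀ a : S, ∃ j : Over i, ∀ k, (k ⟶ j) →
      P ((pullback.snd (D.map k.hom) h ⁻¹ᵁ a.1.1.1).ι ≫ pullback.fst (D.map k.hom) h) := by
    intro a
    haveI : IsAffine a.1.1.1 := a.1.1.2
    have hlim : P (pullback.fst (c.π.app i) (a.1.1.1.ι ≫ h)) := by
      rw [← prop_fst_iff_of_isPullback P
        (((isPullback_morphismRestrict (pullback.snd (c.π.app i) h) a.1.1.1).flip.paste_horiz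
          (IsPullback.of_hasPullback (c.π.app i) h)))]
      exact IsZariskiLocalAtSource.comp hl _
    obtain ⟨j, hj⟩ := exists_stage_affine_piece hd hc (a.1.1.1.ι ≫ h) a.1.2.2
      (fun x => a.2 x.1 x.2) (fun {T} h' m _ e => by
        haveI : LocallyOfFinitePresentation (h' ≫ m) := by rw [e]; infer_instance
        exact FibrewiseCrit.locallyOfFinitePresentation_of_comp h' m inferInstance inferInstance) hlim
    refine ⟨j, fun k φ => ?_⟩
    rw [prop_fst_iff_of_isPullback P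
      (((isPullback_morphismRestrict (pullback.snd (D.map k.hom) h) a.1.1.1).flip.paste_horiz
        (IsPullback.of_hasPullback (D.map k.hom) h)))]
    have h2 := hj k φ
    refine LimLib.of_restrict (P := P) (fun f g _ hf => P.comp_mem f g hf (hoi g)) _
      (fun _ : Unit => D.map k.hom ⁻¹ᵁ a.1.2.1) (fun x => ⟨(), ?_⟩) fun _ => ?_
    · show D.map k.hom (pullback.fst (D.map k.hom) (a.1.1.1.ι ≫ h) x) ∈ a.1.2.1
      rw [← Scheme.Hom.comp_apply, pullback.condition, ← Category.assoc, Scheme.Hom.comp_apply]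
      exact a.2 _ ((pullback.snd (D.map k.hom) (a.1.1.1.ι ≫ h) x)).2
    · exact (prop_fst_iff_of_isPullback P ((isPullback_morphismRestrict _ _).paste_vert
        (IsPullback.of_hasPullback (D.map k.hom) (a.1.1.1.ι ≫ h)))).2 h2
  choose j hj using hpiece
  classical
  obtain ⟨m, hm⟩ := IsCofiltered.inf_objs_exists (s.image j)
  refine ⟨m, IsZariskiLocalAtSource.of_iSup_eq_top
    (fun a : {a // a ∈ s} => pullback.snd (D.map m.hom) h ⁻¹ᵁ a.1.1.1.1) ?_ fun a => ?_⟩
  · refine eq_top_iff.2 fun x _ => ?_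
    obtain ⟨a, ha, hx⟩ := Set.mem_iUnion₂.1 (hs (Set.mem_univ (pullback.snd (D.map m.hom) h x)))
    exact TopologicalSpace.Opens.mem_iSup.2 ⟨⟨a, ha⟩, hx⟩
  · exact hj a.1 m (hm (Finset.mem_image_of_mem j a.2)).some

omit [IsCofiltered I] [∀ {i j : I} (f : i ⟶ j), IsAffineHom (D.map f)] in
/-- A property stable under base change passes from a stage to the limit. -/
theorem prop_limit_of_stage (P : MorphismProperty Scheme.{u}) [P.IsStableUnderBaseChange]
    {i₀ : I} {X₀ Y₀ X Y : Scheme.{u}} {f₀ : X₀ ⟶ Y₀} {g₀ : Y₀ ⟶ D.obj i₀} {f : X ⟶ Y} {g : Y ⟶ c.pt}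
    {qY : Y ⟶ Y₀} {qX : X ⟶ X₀} (hY : IsPullback qY g g₀ (c.π.app i₀)) (hX : IsPullback qX f f₀ qY)
    {j : I} {φ : j ⟶ i₀} {Xj Yj : Scheme.{u}} {fj : Xj ⟶ Yj} {gj : Yj ⟶ D.obj j} {pY : Yj ⟶ Y₀}
    {pX : Xj ⟶ X₀} (hYj : IsPullback pY gj g₀ (D.map φ)) (hXj : IsPullback pX fj f₀ pY) (hP : P fj) :
    P f := by
  let vY := hYj.lift qY (g ≫ c.π.app j) (by rw [Category.assoc, c.w]; exact hY.w)
  have h1 : vY ≫ pY = qY := hYj.lift_fst _ _ _
  let vX := hXj.lift qX (f ≫ vY) (by rw [Category.assoc, h1]; exact hX.w)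
  have hX' : IsPullback qX f f₀ (vY ≫ pY) := h1 ▸ hX
  have h2 : IsPullback vX f fj vY := by
    refine IsPullback.of_right ?_ (hXj.lift_snd _ _ _) hXj
    rw [hXj.lift_fst]; exact hX'
  exact MorphismProperty.of_isPullback h2 hP

end Groth.Agent.FibConstr
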