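import Groth.Agent.FibConstr.RelLocus
import Groth.Agent.FibConstr.FibreMap
import Groth.Agent.FibrewiseCrit.Pointwise
import Groth.Agent.FibrewiseCrit.SmoothDescent
import Groth.Agent.FibrewiseCrit.Unramified
import Groth.Agent.FlatDescent.FibreDepth.Points

/-!
Loci of smoothness and of unramifiedness of the morphisms induced on fibres.
-/

set_option autoImplicit false
set_option backward.isDefEq.respectTransparency.types false

universe u

open AlgebraicGeometry CategoryTheory Limits Topology TopologicalSpace
open Groth.FibrewiseCrit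

namespace Groth.Agent.FibConstr

/-- The canonical morphism induced on fibres. -/
noncomputable def fibreMap {X Y S : Scheme.{u}} (f : X ⟶ Y) (g : Y ⟶ S) (s : S) : (f ≫ g).fiber s ⟶ g.fiber s :=
  pullback.lift ((f ≫ g).fiberι s ≫ f) ((f ≫ g).fiberToSpecResidueField s)
    (by rw [Category.assoc]; exact (f ≫ g).fiber_fac s)

theorem isPullback_fibreMap {X Y S : Scheme.{u}} (f : X ⟶ Y) (g : Y ⟶ S) (s : S) :
    IsPullback ((f ≫ g).fiberι s) (fibreMap f g s) f (g.fiberι s) :=
  isPullback_fiberMap f g s

/-- The points at which the morphism induced on the fibre over the base is smooth. -/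
def smoothFibLocus ⦃X Y S : Scheme.{u}⦄ (f : X ⟶ Y) (g : Y ⟶ S) : Set X :=
  {x | ((fibreMap f g ((f ≫ g) x)).stalkMap ((f ≫ g).asFiber x)).hom.FormallySmooth}

theorem mem_smoothFibLocus_iff {X Y S : Scheme.{u}} {f : X ⟶ Y} {g : Y ⟶ S} [LocallyOfFinitePresentation f] {s : S}
    {P : Scheme.{u}} {φ : P ⟶ g.fiber s} [LocallyOfFinitePresentation φ] {a : P ⟶ X}
    (h : IsPullback a φ f (g.fiberι s)) (p : P) : a p ∈ smoothFibLocus f g ↔ p ∈ φ.smoothLocus := by
  let e := h.isoIsPullback _ _ (isPullback_fibreMap f g s)
  haveI : ∀ t, LocallyOfFinitePresentation (fibreMap f g t) := fun t =>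
    MorphismProperty.of_isPullback (isPullback_fibreMap f g t) inferInstance
  have e1 : e.hom ≫ (f ≫ g).fiberι s = a := h.isoIsPullback_hom_fst _ _ (isPullback_fibreMap f g s)
  have e2 : e.hom ≫ fibreMap f g s = φ := h.isoIsPullback_hom_snd _ _ (isPullback_fibreMap f g s)
  have key : ∀ z : (f ≫ g).fiber s, (f ≫ g).fiberι s z ∈ smoothFibLocus f g ↔ z ∈ (fibreMap f g s).smoothLocus := by
    intro z
    refine Groth.FlatDescent.FibreDepth.fiber_cases (f ≫ g) z
      (motive := fun t w => (f ≫ g).fiberι t w ∈ smoothFibLocus f g ↔ w ∈ (fibreMap f g t).smoothLocus) ?_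
    rw [Scheme.Hom.fiberι_asFiber]
    rfl
  rw [← e1, Scheme.Hom.comp_apply, key]
  simp only [← e2]
  exact (mem_smoothLocus_comp_left e.hom (fibreMap f g s) p).symm

theorem goodLocus_smoothFibLocus : GoodLocus.{u} smoothFibLocus where
  bc X Y S X' Y' S' f g f' g' eX eY h hY hX hg hf := by
    ext x'
    haveI : LocallyOfFinitePresentation f' := MorphismProperty.of_isPullback hX hf
    let s' := (f' ≫ g') x'
    have sqY := isPullback_fiberToSpecResidueField_of_isPullback hY s'
    let GY : g'.fiber s' ⟶ g.fiber (h s') := pullback.map g' (S'.fromSpecResidueField s') g (S.fromSpecResidueField (h s'))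
      eY (Spec.map (h.residueFieldMap s')) h hY.w.symm (by simp)
    haveI : Flat (Spec.map (h.residueFieldMap s')) := flat_Spec_map_of_field _
    haveI : Flat GY := MorphismProperty.of_isPullback sqY.flip inferInstance
    have hGY : GY ≫ g.fiberι (h s') = g'.fiberι s' ≫ eY := pullback.lift_fst _ _ _
    have sq := isPullback_fibreMap f g (h s')
    let GX := sq.lift ((f' ≫ g').fiberι s' ≫ eX) (fibreMap f' g' s' ≫ GY) (by
      rw [Category.assoc, hX.w, Category.assoc, hGY, ← Category.assoc, ← Category.assoc,
        (isPullback_fibreMap f' g' s').w])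
    have h1 : GX ≫ (f ≫ g).fiberι (h s') = (f' ≫ g').fiberι s' ≫ eX := sq.lift_fst _ _ _
    have hsq : IsPullback GX (fibreMap f' g' s') (fibreMap f g (h s')) GY :=
      IsPullback.of_right (by rw [h1, hGY]; exact (isPullback_fibreMap f' g' s').paste_horiz hX)
        (sq.lift_snd _ _ _) sq
    haveI : LocallyOfFinitePresentation (fibreMap f g (h s')) := MorphismProperty.of_isPullback sq inferInstance
    haveI : LocallyOfFinitePresentation (fibreMap f' g' s') :=
      MorphismProperty.of_isPullback (isPullback_fibreMap f' g' s') inferInstance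
    have hx : eX x' = (f ≫ g).fiberι (h s') (GX ((f' ≫ g').asFiber x')) := by
      rw [← Scheme.Hom.comp_apply, h1, Scheme.Hom.comp_apply]
      exact congrArg eX ((f' ≫ g').fiberι_asFiber x').symm
    rw [Set.mem_preimage, hx, mem_smoothFibLocus_iff sq, ← mem_smoothLocus_of_isPullback hsq]
    rfl
  openLeft W X Y S j _ f g hf hg := by
    ext w
    let s := ((j ≫ f) ≫ g) w
    haveI : LocallyOfFinitePresentation (fibreMap f g s) :=
      MorphismProperty.of_isPullback (isPullback_fibreMap f g s) inferInstance
    have sq := isPullback_fibreMap f g s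
    have hsq : IsPullback (pullback.fst j ((f ≫ g).fiberι s))
        (pullback.snd j ((f ≫ g).fiberι s) ≫ fibreMap f g s) (j ≫ f) (g.fiberι s) :=
      (IsPullback.of_hasPullback j _).paste_vert sq
    obtain ⟨p, hp, -⟩ : ∃ p, pullback.fst j ((f ≫ g).fiberι s) p = w ∧ True := by
      have : w ∈ j ⁻¹' Set.range ((f ≫ g).fiberι s) := by
        rw [Set.mem_preimage, Scheme.Hom.range_fiberι]
        show (f ≫ g) (j w) = s
        simp only [s, Scheme.Hom.comp_apply]
      obtain ⟨z, hz⟩ := this
      obtain ⟨p, hp, -⟩ := Scheme.Pullback.exists_preimage_pullback w z hz.symm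
      exact ⟨p, hp, trivial⟩
    rw [Set.mem_preimage, ← hp, mem_smoothFibLocus_iff hsq, mem_smoothLocus_comp_left,
      ← mem_smoothFibLocus_iff sq, ← Scheme.Hom.comp_apply, ← Scheme.Hom.comp_apply]
    simp only [pullback.condition]
  openMid X V Y S f j _ g hf hg := by
    ext x
    let s := (f ≫ j ≫ g) x
    haveI : LocallyOfFinitePresentation (fibreMap f (j ≫ g) s) :=
      MorphismProperty.of_isPullback (isPullback_fibreMap f (j ≫ g) s) inferInstance
    let k : (j ≫ g).fiber s ⟶ g.fiber s := pullback.map (j ≫ g) (S.fromSpecResidueField s) g (S.fromSpecResidueField s) j (𝟙 _) (𝟙 _) (by simp) (by simp)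
    have hk : IsPullback ((j ≫ g).fiberι s) k j (g.fiberι s) := by
      refine IsPullback.of_bot ?_ (pullback.lift_fst _ _ _).symm (IsPullback.of_hasPullback g (S.fromSpecResidueField s))
      have e : k ≫ pullback.snd g (S.fromSpecResidueField s) = pullback.snd (j ≫ g) _ :=
        (pullback.lift_snd _ _ _).trans (Category.comp_id _)
      rw [e]
      exact IsPullback.of_hasPullback (j ≫ g) _
    haveI : IsOpenImmersion k := MorphismProperty.of_isPullback hk inferInstance
    have hsq : IsPullback ((f ≫ j ≫ g).fiberι s) (fibreMap f (j ≫ g) s ≫ k) (f ≫ j) (g.fiberι s) :=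
      (isPullback_fibreMap f (j ≫ g) s).paste_vert hk
    rw [← (f ≫ j ≫ g).fiberι_asFiber x, mem_smoothFibLocus_iff hsq,
      mem_smoothFibLocus_iff (isPullback_fibreMap f (j ≫ g) s), mem_smoothLocus_comp_right]
  isOpen X Y S f g _ _ _ _ := by
    have e : smoothFibLocus f g = (f.smoothLocus : Set X) := by
      ext x
      haveI : LocallyOfFinitePresentation (fibreMap f g ((f ≫ g) x)) :=
        MorphismProperty.of_isPullback (isPullback_fibreMap f g ((f ≫ g) x)) inferInstance
      exact (mem_smoothLocus_iff_fiberMap f g x (Flat.stalkMap (f ≫ g) x) _ (isPullback_fibreMap f g _)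
        ((f ≫ g).asFiber x) ((f ≫ g).fiberι_asFiber x)).symm
    exact e ▸ f.smoothLocus.2

theorem goodLocus_fuLocus : GoodLocus.{u} (fun _ _ _ f _ => fuLocus f) where
  bc X Y S X' Y' S' f g f' g' eX eY h hY hX hg hf := by
    ext x'
    exact mem_fuLocus_of_isPullback hX x'
  openLeft W X Y S j _ f g hf hg := by
    ext w
    exact mem_fuLocus_comp_left j f w
  openMid X V Y S f j _ g hf hg := by
    ext x
    exact mem_fuLocus_comp_right f j x
  isOpen X Y S f g _ _ _ _ := isOpen_fuLocus f

/-- The points of the base over which every point lies in a given set. -/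
theorem isLocallyConstructible_forall {X S : Scheme.{u}} (q : X ⟶ S) [LocallyOfFinitePresentation q] [QuasiCompact q]
    {E : Set X} (hE : IsLocallyConstructible E) : IsLocallyConstructible {s : S | ∀ x, q x = s → x ∈ E} := by
  have e : {s : S | ∀ x, q x = s → x ∈ E} = (q '' Eᶜ)ᶜ := by
    ext s
    exact ⟨fun h ⟨x, hx, hxs⟩ => hx (h x hxs), fun h x hxs => by_contra fun hx => h ⟨x, hx, hxs⟩⟩
  rw [e]
  exact isLocallyConstructible_compl (q.isLocallyConstructible_image (isLocallyConstructible_compl hE))

variable {X Y S : Scheme.{u}} (f : X ⟶ Y) (g : Y ⟶ S) [LocallyOfFinitePresentation g]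
  [LocallyOfFinitePresentation (f ≫ g)] [QuasiCompact (f ≫ g)]

theorem range_fst_fiberι (s : S) (x : X) :
    (f ≫ g) x = s ↔ ∃ p, pullback.fst f (g.fiberι s) p = x := by
  constructor
  · intro hx
    obtain ⟨y, hy⟩ : f x ∈ Set.range (g.fiberι s) := by
      rw [Scheme.Hom.range_fiberι]; exact hx
    obtain ⟨p, hp, -⟩ := Scheme.Pullback.exists_preimage_pullback x y hy.symm
    exact ⟨p, hp⟩
  · rintro ⟨p, rfl⟩
    have : g.fiberι s (pullback.snd f (g.fiberι s) p) ∈ Set.range (g.fiberι s) := ⟨_, rfl⟩
    rw [Scheme.Hom.range_fiberι, ← Scheme.Hom.comp_apply, ← pullback.condition] at this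
    exact this

theorem isLocallyConstructible_setOf_smooth :
    IsLocallyConstructible {s : S | Smooth (pullback.snd f (g.fiberι s))} := by
  haveI : LocallyOfFinitePresentation f := locallyOfFinitePresentation_of_comp f g inferInstance inferInstance
  convert isLocallyConstructible_forall (f ≫ g) (goodLocus_smoothFibLocus.isLocallyConstructible f g) using 1
  ext s
  show Smooth _ ↔ ∀ x, _
  rw [Groth.Agent.FibrewiseCrit.smooth_iff_forall_mem]
  constructor
  · intro h x hx
    obtain ⟨p, rfl⟩ := (range_fst_fiberι f g s x).1 hx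
    exact (mem_smoothFibLocus_iff (IsPullback.of_hasPullback f (g.fiberι s)) p).2 (h p)
  · intro h p
    exact (mem_smoothFibLocus_iff (IsPullback.of_hasPullback f (g.fiberι s)) p).1
      (h _ ((range_fst_fiberι f g s _).2 ⟨p, rfl⟩))

theorem isLocallyConstructible_setOf_formallyUnramified :
    IsLocallyConstructible {s : S | FormallyUnramified (pullback.snd f (g.fiberι s))} := by
  haveI : LocallyOfFinitePresentation f := locallyOfFinitePresentation_of_comp f g inferInstance inferInstance
  convert isLocallyConstructible_forall (f ≫ g) (goodLocus_fuLocus.isLocallyConstructible f g) using 1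
  ext s
  show FormallyUnramified _ ↔ ∀ x, _
  rw [formallyUnramified_iff_forall_mem_fuLocus]
  constructor
  · intro h x hx
    obtain ⟨p, rfl⟩ := (range_fst_fiberι f g s x).1 hx
    exact (mem_fuLocus_of_isPullback (IsPullback.of_hasPullback f (g.fiberι s)) p).1 (h p)
  · intro h p
    exact (mem_fuLocus_of_isPullback (IsPullback.of_hasPullback f (g.fiberι s)) p).2
      (h _ ((range_fst_fiberι f g s _).2 ⟨p, rfl⟩))

theorem isLocallyConstructible_setOf_etale :
    IsLocallyConstructible {s : S | Etale (pullback.snd f (g.fiberι s))} := by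
  haveI : LocallyOfFinitePresentation f := locallyOfFinitePresentation_of_comp f g inferInstance inferInstance
  convert (isLocallyConstructible_setOf_smooth f g).inter (isLocallyConstructible_setOf_formallyUnramified f g) using 1
  ext s
  exact ⟨fun (h : Etale _) => ⟨(inferInstance : Smooth _), (inferInstance : FormallyUnramified _)⟩,
    fun ⟨h1, h2⟩ => by
      haveI : Smooth _ := h1
      haveI : FormallyUnramified _ := h2
      exact Etale.of_formallyUnramified_of_flat _⟩

end Groth.Agent.FibConstr
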