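import Groth.Agent.FibConstr.FibreMap
import Groth.Agent.FibConstr.SmoothLocus
import Groth.Agent.LimLib.BaseChange
import Groth.Agent.LimLib.Constr

/-!
Properties that hold in the limit as soon as a bad locus is empty there hold at a finite stage.
-/

set_option autoImplicit false
set_option backward.isDefEq.respectTransparency.types false

universe u

open AlgebraicGeometry CategoryTheory Limits Topology TopologicalSpace
open Groth.FibrewiseCrit

namespace Groth.Agent.FibConstr

variable {I : Type u} [SmallCategory I] [IsCofiltered I] {D : I ⥤ Scheme.{u}}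
  [∀ {i j : I} (f : i ⟶ j), IsAffineHom (D.map f)] {c : Cone D}

/-- A constructibly closed set over a quasi-compact stage that misses the limit misses a stage. -/
theorem exists_stage_forall_notMem (hc : IsLimit c) {i₀ : I} {T : Scheme.{u}} (a : T ⟶ D.obj i₀) [CompactSpace T]
    {C : Set T} (hC : LimLib.LCClosed C) (h : ∀ t, pullback.snd (c.π.app i₀) a t ∉ C) :
    ∃ (j : I) (φ : j ⟶ i₀), ∀ t, pullback.snd (D.map φ) a t ∉ C := by
  let o : Over i₀ := Over.mk (𝟙 i₀)
  haveI : IsAffineHom (pullback.snd (D.map o.hom) a) := MorphismProperty.pullback_snd _ _ inferInstance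
  haveI : QuasiCompact (pullback.snd (D.map o.hom) a) :=
    MorphismProperty.pullback_snd _ _ (inferInstance : QuasiCompact (D.map o.hom))
  haveI hcs : CompactSpace (pullback (D.map o.hom) a : Scheme.{u}) :=
    QuasiCompact.compactSpace_of_compactSpace (pullback.snd (D.map o.hom) a)
  haveI : CompactSpace ((LimLib.bcDiagram D a).obj o) := hcs
  obtain ⟨j, φ, hj⟩ := LimLib.exists_preimage_eq_empty_lc (LimLib.isLimitBcCone a hc) (i := o)
    (hC.preimage (pullback.snd (D.map o.hom) a)) (Set.eq_empty_of_forall_notMem fun t ht => h t (by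
      have e : (LimLib.bcCone c a).π.app o ≫ pullback.snd (D.map o.hom) a = pullback.snd (c.π.app i₀) a :=
        (pullback.lift_snd _ _ _).trans (Category.comp_id _)
      rw [← e]
      exact ht))
  refine ⟨j.left, j.hom, fun t ht => Set.eq_empty_iff_forall_notMem.1 hj t ?_⟩
  have e : (LimLib.bcDiagram D a).map φ ≫ pullback.snd (D.map o.hom) a = pullback.snd (D.map j.hom) a :=
    (pullback.lift_snd _ _ _).trans (Category.comp_id _)
  show ((LimLib.bcDiagram D a).map φ ≫ pullback.snd (D.map o.hom) a) t ∈ C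
  exact Eq.subst (motive := fun x => x ∈ C) (congr($e t)).symm ht

variable {i₀ : I} {X₀ Y₀ X Y : Scheme.{u}} {f₀ : X₀ ⟶ Y₀} {g₀ : Y₀ ⟶ D.obj i₀} {f : X ⟶ Y} {g : Y ⟶ c.pt}
  {qY : Y ⟶ Y₀} {qX : X ⟶ X₀}

/-- A bad set on the source that misses the base change to the limit misses a stage. -/
theorem exists_stage_source (hc : IsLimit c) [CompactSpace X₀] (hY : IsPullback qY g g₀ (c.π.app i₀))
    (hX : IsPullback qX f f₀ qY) {C : Set X₀} (hC : LimLib.LCClosed C) (h : ∀ x, qX x ∉ C) :
    ∃ (i : I) (φ : i ⟶ i₀), ∀ x, pullback.fst f₀ (pullback.fst g₀ (D.map φ)) x ∉ C := by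
  obtain ⟨i, φ, hi⟩ := exists_stage_forall_notMem hc (f₀ ≫ g₀) hC fun t ht => by
    let y := hY.lift (pullback.snd (c.π.app i₀) (f₀ ≫ g₀) ≫ f₀) (pullback.fst (c.π.app i₀) (f₀ ≫ g₀))
      (by rw [Category.assoc, pullback.condition])
    let x := hX.lift (pullback.snd (c.π.app i₀) (f₀ ≫ g₀)) y (by simp [y])
    refine h (x t) ?_
    rw [← Scheme.Hom.comp_apply]
    simpa [x] using ht
  refine ⟨i, φ, fun z hz => hi (pullback.lift (pullback.snd f₀ (pullback.fst g₀ (D.map φ)) ≫ pullback.snd g₀ (D.map φ))
    (pullback.fst f₀ (pullback.fst g₀ (D.map φ))) ?_ z) ?_⟩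
  · rw [Category.assoc, ← pullback.condition, pullback.condition_assoc]
  · rw [← Scheme.Hom.comp_apply, pullback.lift_snd]
    exact hz

/-- A bad set on the self-product of the source that misses the limit misses a stage. -/
theorem exists_stage_diagonal (hc : IsLimit c) [CompactSpace (pullback f₀ f₀ : Scheme.{u})]
    (hY : IsPullback qY g g₀ (c.π.app i₀)) (hX : IsPullback qX f f₀ qY) {C : Set (pullback f₀ f₀ : Scheme.{u})}
    (hC : LimLib.LCClosed C) (h : ∀ w, pullback.map f f f₀ f₀ qX qX qY hX.w.symm hX.w.symm w ∉ C) :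
    ∃ (i : I) (φ : i ⟶ i₀), ∀ w, pullback.map (pullback.snd f₀ (pullback.fst g₀ (D.map φ)))
      (pullback.snd f₀ (pullback.fst g₀ (D.map φ))) f₀ f₀ (pullback.fst _ _) (pullback.fst _ _)
      (pullback.fst g₀ (D.map φ)) pullback.condition.symm pullback.condition.symm w ∉ C := by
  let a := pullback.fst f₀ f₀ ≫ f₀ ≫ g₀
  obtain ⟨i, φ, hi⟩ := exists_stage_forall_notMem hc a hC fun t ht => by
    let s := pullback.fst (c.π.app i₀) a
    let y := hY.lift (pullback.snd (c.π.app i₀) a ≫ pullback.fst f₀ f₀ ≫ f₀) s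
      (by rw [Category.assoc, Category.assoc, pullback.condition])
    let x₁ := hX.lift (pullback.snd (c.π.app i₀) a ≫ pullback.fst f₀ f₀) y (by simp [y])
    let x₂ := hX.lift (pullback.snd (c.π.app i₀) a ≫ pullback.snd f₀ f₀) y
      (by simp [y, pullback.condition (f := f₀) (g := f₀)])
    let w : pullback (c.π.app i₀) a ⟶ pullback f f := pullback.lift x₁ x₂ (by simp [x₁, x₂])
    have e : w ≫ pullback.map f f f₀ f₀ qX qX qY hX.w.symm hX.w.symm = pullback.snd (c.π.app i₀) a := by
      apply pullback.hom_ext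
      · rw [Category.assoc, pullback.lift_fst, pullback.lift_fst_assoc, IsPullback.lift_fst]
      · rw [Category.assoc, pullback.lift_snd, pullback.lift_snd_assoc, IsPullback.lift_fst]
    refine h (w t) ?_
    rw [← Scheme.Hom.comp_apply, e]
    exact ht
  refine ⟨i, φ, fun z hz => ?_⟩
  refine hi (pullback.lift (pullback.fst _ _ ≫ pullback.snd f₀ (pullback.fst g₀ (D.map φ)) ≫ pullback.snd g₀ (D.map φ))
    (pullback.map (pullback.snd f₀ (pullback.fst g₀ (D.map φ)))
      (pullback.snd f₀ (pullback.fst g₀ (D.map φ))) f₀ f₀ (pullback.fst _ _) (pullback.fst _ _)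
      (pullback.fst g₀ (D.map φ)) pullback.condition.symm pullback.condition.symm) ?_ z) ?_
  · simp only [a, pullback.lift_fst_assoc, Category.assoc]
    rw [← pullback.condition (f := g₀), ← pullback.condition_assoc (f := f₀)]
  · rw [← Scheme.Hom.comp_apply, pullback.lift_snd]
    exact hz

/-- A point of the self-product of a base change comes from the diagonal as soon as its image does. -/
theorem mem_range_diagonal_iff {X Y X' Y' : Scheme.{u}} {f : X ⟶ Y} {f' : X' ⟶ Y'} {eX : X' ⟶ X} {eY : Y' ⟶ Y}
    (h : IsPullback eX f' f eY) (w : (pullback f' f' : Scheme.{u})) :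
    pullback.map f' f' f f eX eX eY h.w.symm h.w.symm w ∈ Set.range (pullback.diagonal f) ↔
      w ∈ Set.range (pullback.diagonal f') := by
  let m := pullback.map f' f' f f eX eX eY h.w.symm h.w.symm
  have hm₁ : m ≫ pullback.fst f f = pullback.fst f' f' ≫ eX := pullback.lift_fst _ _ _
  have hm₂ : m ≫ pullback.snd f f = pullback.snd f' f' ≫ eX := pullback.lift_snd _ _ _
  have hm : pullback.diagonal f' ≫ m = eX ≫ pullback.diagonal f := by
    apply pullback.hom_ext <;> simp [hm₁, hm₂]
  have hsq : IsPullback eX (pullback.diagonal f') (pullback.diagonal f) m := by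
    refine IsPullback.of_isLimit' ⟨hm.symm⟩ (PullbackCone.IsLimit.mk _ (fun s => s.snd ≫ pullback.fst f' f') ?_ ?_ ?_)
    · intro s
      have := congrArg (· ≫ pullback.fst f f) s.condition
      simpa [hm₁] using this.symm
    · intro s
      have h1 := congrArg (· ≫ pullback.fst f f) s.condition
      have h2 := congrArg (· ≫ pullback.snd f f) s.condition
      simp [hm₁, hm₂] at h1 h2
      apply pullback.hom_ext
      · simp
      · simp only [Category.assoc, pullback.diagonal_snd, Category.comp_id]
        apply h.hom_ext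
        · simp only [Category.assoc]; exact h1.symm.trans h2
        · simp only [Category.assoc, pullback.condition]
    · intro s l h1 h2
      have := congrArg (· ≫ pullback.fst f' f') h2
      simpa using this
  constructor
  · rintro ⟨x, hx⟩
    obtain ⟨p, -, hp⟩ := Scheme.exists_preimage_of_isPullback hsq x w hx
    exact ⟨p, hp⟩
  · rintro ⟨p, rfl⟩
    exact ⟨eX p, by rw [← Scheme.Hom.comp_apply, ← hm, Scheme.Hom.comp_apply]⟩

theorem universallyInjective_iff_forall {X Y X' Y' : Scheme.{u}} {f : X ⟶ Y} {f' : X' ⟶ Y'} {eX : X' ⟶ X}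
    {eY : Y' ⟶ Y} (h : IsPullback eX f' f eY) :
    UniversallyInjective f' ↔ ∀ w, pullback.map f' f' f f eX eX eY h.w.symm h.w.symm w ∈ Set.range (pullback.diagonal f) := by
  rw [UniversallyInjective.iff_diagonal, surjective_iff]
  simp only [mem_range_diagonal_iff h]
  rfl

/-- Monomorphisms locally of finite type are the radicial unramified morphisms. -/
theorem mono_iff_universallyInjective_formallyUnramified {X Y : Scheme.{u}} (f : X ⟶ Y) [LocallyOfFiniteType f] :
    Mono f ↔ UniversallyInjective f ∧ FormallyUnramified f := by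
  constructor
  · intro _
    haveI : IsIso (pullback.diagonal f) := (pullback.isIso_diagonal_iff f).mpr inferInstance
    exact ⟨inferInstance, inferInstance⟩
  · rintro ⟨h1, h2⟩
    haveI : Surjective (pullback.diagonal f) := (UniversallyInjective.iff_diagonal f).1 h1
    rw [← pullback.isIso_diagonal_iff, isIso_iff_isOpenImmersion_and_surjective]
    exact ⟨inferInstance, inferInstance⟩

theorem lcClosed_compl_range_diagonal {S : Scheme.{u}} (f₀ : X₀ ⟶ Y₀) (g₀ : Y₀ ⟶ S) [CompactSpace S]
    [QuasiSeparatedSpace S] [LocallyOfFinitePresentation g₀] [QuasiCompact g₀] [QuasiSeparated g₀]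
    [LocallyOfFinitePresentation (f₀ ≫ g₀)] [QuasiCompact (f₀ ≫ g₀)] [QuasiSeparated (f₀ ≫ g₀)] :
    CompactSpace (pullback f₀ f₀ : Scheme.{u}) ∧ LimLib.LCClosed (Set.range (pullback.diagonal f₀))ᶜ := by
  haveI : LocallyOfFinitePresentation f₀ := locallyOfFinitePresentation_of_comp f₀ g₀ inferInstance inferInstance
  haveI : QuasiSeparated f₀ := QuasiSeparated.of_comp f₀ g₀
  haveI : QuasiCompact f₀ := QuasiCompact.of_comp f₀ g₀
  haveI : LocallyOfFinitePresentation (pullback.diagonal f₀) :=
    locallyOfFinitePresentation_of_comp _ (pullback.fst f₀ f₀) (by rw [pullback.diagonal_fst]; infer_instance) inferInstance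
  haveI : CompactSpace (pullback f₀ f₀ : Scheme.{u}) :=
    QuasiCompact.compactSpace_of_compactSpace (pullback.fst f₀ f₀ ≫ f₀ ≫ g₀)
  haveI : QuasiSeparatedSpace (pullback f₀ f₀ : Scheme.{u}) :=
    quasiSeparatedSpace_of_quasiSeparated (pullback.fst f₀ f₀ ≫ f₀ ≫ g₀)
  refine ⟨inferInstance, LimLib.lcClosed_of_isConstructible (IsConstructible.compl ?_)⟩
  rw [← Set.image_univ]
  exact ((pullback.diagonal f₀).isLocallyConstructible_image IsLocallyConstructible.univ).isConstructible

end Groth.Agent.FibConstr
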