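import Groth.Agent.FibConstr.Descent
import Groth.Agent.LimLib.Descend
import Groth.Agent.LimLib.EventualBase
import Mathlib.AlgebraicGeometry.Morphisms.Immersion

/-!
Finite morphisms, closed immersions, isomorphisms, immersions and open immersions descend to a
stage of a limit with affine transition maps.
-/

set_option autoImplicit false
set_option backward.isDefEq.respectTransparency.types false

universe u

open AlgebraicGeometry CategoryTheory Limits

namespace Groth.Agent.FibConstr

variable {I : Type u} [SmallCategory I] [IsCofiltered I] {D : I ⥤ Scheme.{u}}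
  [∀ {i j : I} (f : i ⟶ j), IsAffineHom (D.map f)] {c : Cone D}

theorem exists_stage_isFinite (hc : IsLimit c) {i : I} [CompactSpace (D.obj i)]
    [QuasiSeparatedSpace (D.obj i)] {Z : Scheme.{u}} [CompactSpace Z] [QuasiSeparatedSpace Z]
    (h : Z ⟶ D.obj i) (hH : LocallyOfFiniteType h) (hl : IsFinite (pullback.fst (c.π.app i) h)) :
    ∃ j : Over i, IsFinite (pullback.fst (D.map j.hom) h) :=
  exists_stage_of_affineDescends affineDescends_isFinite hc h hH hl
    (haveI := hl; inferInstance)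

theorem exists_stage_isClosedImmersion (hc : IsLimit c) {i : I} [CompactSpace (D.obj i)]
    [QuasiSeparatedSpace (D.obj i)] {Z : Scheme.{u}} [CompactSpace Z] [QuasiSeparatedSpace Z]
    (h : Z ⟶ D.obj i) (hH : LocallyOfFiniteType h)
    (hl : IsClosedImmersion (pullback.fst (c.π.app i) h)) :
    ∃ j : Over i, IsClosedImmersion (pullback.fst (D.map j.hom) h) :=
  exists_stage_of_affineDescends affineDescends_isClosedImmersion hc h hH hl
    (haveI := hl; inferInstance)

theorem exists_stage_isIso (hc : IsLimit c) {i : I} [CompactSpace (D.obj i)]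
    [QuasiSeparatedSpace (D.obj i)] {Z : Scheme.{u}} [CompactSpace Z] [QuasiSeparatedSpace Z]
    (h : Z ⟶ D.obj i) (hH : LocallyOfFinitePresentation h)
    (hl : IsIso (pullback.fst (c.π.app i) h)) :
    ∃ j : Over i, IsIso (pullback.fst (D.map j.hom) h) := by
  haveI := hl
  obtain ⟨j, hj⟩ := exists_stage_isClosedImmersion hc h inferInstance inferInstance
  haveI := hj
  haveI : CompactSpace (D.obj j.left) := QuasiCompact.compactSpace_of_compactSpace (D.map j.hom)
  haveI : LocallyOfFinitePresentation (pullback.fst (D.map j.hom) h) :=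
    MorphismProperty.pullback_fst _ _ hH
  obtain ⟨k, hk⟩ := exists_stage_of_isAffineHom affineDescends_isIso hc (pullback.fst (D.map j.hom) h)
    ⟨inferInstance, inferInstance⟩
    (by rw [prop_fst_fst_iff (MorphismProperty.isomorphisms Scheme)]
        exact (prop_fst_congr (MorphismProperty.isomorphisms Scheme) (c.w j.hom) h).2 hl)
  rw [prop_fst_fst_iff (MorphismProperty.isomorphisms Scheme),
    prop_fst_congr (MorphismProperty.isomorphisms Scheme) (D.map_comp k.hom j.hom).symm h] at hk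
  exact ⟨Over.mk (k.hom ≫ j.hom), hk⟩

/-- A property which holds on the limit over a compact open containing the image holds at a stage
over an open containing the image. -/
theorem exists_stage_over_open (P H : MorphismProperty Scheme.{u}) [P.IsStableUnderBaseChange]
    [H.IsStableUnderBaseChange] (hc : IsLimit c)
    (core : ∀ {J : Type u} [SmallCategory J] [IsCofiltered J] {D' : J ⥤ Scheme.{u}}
      [∀ {a b : J} (f : a ⟶ b), IsAffineHom (D'.map f)] {c' : Cone D'} (_ : IsLimit c') {o : J}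
      [CompactSpace (D'.obj o)] [QuasiSeparatedSpace (D'.obj o)] {Z : Scheme.{u}} [CompactSpace Z]
      [QuasiSeparatedSpace Z] (h : Z ⟶ D'.obj o), H h → P (pullback.fst (c'.π.app o) h) →
        ∃ j : Over o, P (pullback.fst (D'.map j.hom) h))
    {i : I} [CompactSpace (D.obj i)] [QuasiSeparatedSpace (D.obj i)] {Z : Scheme.{u}}
    [CompactSpace Z] [QuasiSeparatedSpace Z] (h : Z ⟶ D.obj i) (hH : H h) (U : c.pt.Opens)
    (hU : IsCompact (U : Set c.pt)) (hrange : ∀ x, pullback.fst (c.π.app i) h x ∈ U)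
    (hPU : P (pullback.fst (c.π.app i) h ∣_ U)) :
    ∃ (j : Over i) (W : (D.obj j.left).Opens), (∀ x, pullback.fst (D.map j.hom) h x ∈ W) ∧
      P (pullback.fst (D.map j.hom) h ∣_ W) := by
  obtain ⟨j, φ, V, hV, hVU⟩ := LimLib.exists_preimage_eq_over hc (i := i) U hU
  let B := LimLib.bcDiagram D h
  haveI : ∀ j : Over i, IsAffineHom (pullback.snd (D.map j.hom) h) := fun j =>
    MorphismProperty.pullback_snd _ _ inferInstance
  haveI : ∀ j : Over i, CompactSpace (B.obj j) := fun j =>
    (QuasiCompact.compactSpace_of_compactSpace (pullback.snd (D.map j.hom) h) :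
      CompactSpace (pullback (D.map j.hom) h : Scheme.{u}))
  obtain ⟨m, ψ, hm⟩ := exists_map_eq_top B (LimLib.bcCone c h) (LimLib.isLimitBcCone h hc)
    (i := Over.mk φ) (pullback.fst (D.map φ) h ⁻¹ᵁ V) (by
      refine eq_top_iff.2 fun x _ => ?_
      have e : (LimLib.bcCone c h).π.app (Over.mk φ) ≫ pullback.fst (D.map φ) h =
          pullback.fst (c.π.app i) h ≫ c.π.app j := pullback.lift_fst _ _ _
      show pullback.fst (D.map φ) h ((LimLib.bcCone c h).π.app (Over.mk φ) x) ∈ V
      show ((LimLib.bcCone c h).π.app (Over.mk φ) ≫ pullback.fst (D.map φ) h) x ∈ V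
      rw [e]
      have := hrange x
      rw [← hVU] at this
      exact this)
  let W₀ : (D.obj m.left).Opens := D.map ψ.left ⁻¹ᵁ V
  have hland : ∀ x, pullback.fst (D.map m.hom) h x ∈ W₀ := fun x => by
    have h1 : x ∈ B.map ψ ⁻¹ᵁ (pullback.fst (D.map φ) h ⁻¹ᵁ V) := by rw [hm]; trivial
    have e : B.map ψ ≫ pullback.fst (D.map φ) h = pullback.fst (D.map m.hom) h ≫ D.map ψ.left :=
      pullback.lift_fst _ _ _
    show D.map ψ.left (pullback.fst (D.map m.hom) h x) ∈ V
    rw [← Scheme.Hom.comp_apply, ← e]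
    exact h1
  haveI : CompactSpace (D.obj m.left) := QuasiCompact.compactSpace_of_compactSpace (D.map m.hom)
  haveI : QuasiSeparatedSpace (D.obj m.left) := quasiSeparatedSpace_of_quasiSeparated (D.map m.hom)
  have hW₀ : IsCompact (W₀ : Set (D.obj m.left)) :=
    QuasiCompact.isCompact_preimage (f := D.map ψ.left) _ V.2 hV
  have hU' : c.π.app m.left ⁻¹ᵁ W₀ = U := by
    rw [← hVU, ← Scheme.Hom.comp_preimage, c.w ψ.left]
    rfl
  subst hU'
  let o : Over m.left := Over.mk (𝟙 m.left)
  let ιo : (opensDiagram D m.left W₀).obj o ⟶ D.obj m.left :=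
    (opensDiagramι D m.left W₀).app o ≫ D.map o.hom
  haveI : CompactSpace ((opensDiagram D m.left W₀).obj o) :=
    isCompact_iff_compactSpace.mp (QuasiCompact.isCompact_preimage (f := D.map o.hom) _ W₀.2 hW₀)
  haveI : QuasiSeparatedSpace (D.obj o.left) := ‹QuasiSeparatedSpace (D.obj m.left)›
  haveI : QuasiSeparatedSpace ((opensDiagram D m.left W₀).obj o) :=
    (isQuasiSeparated_iff_quasiSeparatedSpace _ (D.map o.hom ⁻¹ᵁ W₀).2).mp (.of_quasiSeparatedSpace _)
  haveI : IsOpenImmersion ιo := by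
    haveI : IsIso (D.map o.hom) := by
      show IsIso (D.map (𝟙 m.left))
      rw [D.map_id]; infer_instance
    show IsOpenImmersion ((D.map o.hom ⁻¹ᵁ W₀).ι ≫ D.map o.hom)
    infer_instance
  haveI : CompactSpace (pullback (D.map m.hom) h : Scheme.{u}) := inferInstanceAs (CompactSpace (B.obj m))
  haveI : QuasiSeparatedSpace (pullback (D.map m.hom) h : Scheme.{u}) :=
    quasiSeparatedSpace_of_quasiSeparated (pullback.snd (D.map m.hom) h)
  haveI : QuasiCompact ιo := quasiCompact_of_compactSpace ιo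
  haveI : CompactSpace (pullback ιo (pullback.fst (D.map m.hom) h) : Scheme.{u}) :=
    QuasiCompact.compactSpace_of_compactSpace (pullback.snd ιo (pullback.fst (D.map m.hom) h))
  haveI : QuasiSeparatedSpace (pullback ιo (pullback.fst (D.map m.hom) h) : Scheme.{u}) :=
    quasiSeparatedSpace_of_quasiSeparated (pullback.snd ιo (pullback.fst (D.map m.hom) h))
  have w : (opensCone D c m.left W₀).π.app o ≫ ιo ≫ D.map m.hom =
      (c.π.app m.left ⁻¹ᵁ W₀).ι ≫ c.π.app i := by
    show (c.π.app m.left).resLE _ _ _ ≫ ((D.map o.hom ⁻¹ᵁ W₀).ι ≫ D.map o.hom) ≫ _ = _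
    rw [Category.assoc, Scheme.Hom.resLE_comp_ι_assoc, c.w_assoc, c.w]
  obtain ⟨k, hk⟩ := core (isLimitOpensCone D c hc m.left W₀) (pullback.fst ιo (pullback.fst (D.map m.hom) h))
    (MorphismProperty.pullback_fst _ _ (MorphismProperty.pullback_fst _ _ hH)) (by
      rw [prop_fst_fst_iff P, prop_fst_fst_iff P]
      refine (prop_fst_congr P w h).2 ?_
      exact (prop_fst_iff_of_isPullback P ((isPullback_morphismRestrict (pullback.fst (c.π.app i) h) _).paste_vert
        (IsPullback.of_hasPullback (c.π.app i) h))).1 hPU)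
  rw [prop_fst_fst_iff P, prop_fst_fst_iff P] at hk
  refine ⟨Over.mk (k.left.hom ≫ m.hom), D.map k.left.hom ⁻¹ᵁ W₀, fun x => ?_, ?_⟩
  · let μ : Over.mk (k.left.hom ≫ m.hom) ⟶ m := Over.homMk k.left.hom
    have e : B.map μ ≫ pullback.fst (D.map m.hom) h =
        pullback.fst (D.map (k.left.hom ≫ m.hom)) h ≫ D.map k.left.hom := pullback.lift_fst _ _ _
    show D.map k.left.hom (pullback.fst (D.map (k.left.hom ≫ m.hom)) h x) ∈ W₀
    show (pullback.fst (D.map (k.left.hom ≫ m.hom)) h ≫ D.map k.left.hom) x ∈ W₀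
    rw [← e]
    exact hland _
  · refine (prop_fst_iff_of_isPullback P ((isPullback_morphismRestrict (pullback.fst (D.map (k.left.hom ≫ m.hom)) h) _).paste_vert
      (IsPullback.of_hasPullback (D.map (k.left.hom ≫ m.hom)) h))).2 ?_
    refine (prop_fst_congr P ?_ h).1 hk
    show (((D.map k.hom.left).resLE _ _ _ ≫ ((D.map o.hom ⁻¹ᵁ W₀).ι ≫ D.map o.hom)) ≫ D.map m.hom) = _
    rw [Category.assoc, Category.assoc, Scheme.Hom.resLE_comp_ι_assoc, D.map_comp,
      ← D.map_comp_assoc, Over.w k.hom]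

theorem exists_stage_isImmersion (hc : IsLimit c) {i : I} [CompactSpace (D.obj i)]
    [QuasiSeparatedSpace (D.obj i)] {Z : Scheme.{u}} [CompactSpace Z] [QuasiSeparatedSpace Z]
    (h : Z ⟶ D.obj i) (hH : LocallyOfFiniteType h)
    (hl : IsImmersion (pullback.fst (c.π.app i) h)) :
    ∃ j : Over i, IsImmersion (pullback.fst (D.map j.hom) h) := by
  haveI := hl
  let hl' := pullback.fst (c.π.app i) h
  haveI : IsAffineHom (c.π.app i) := isAffineHom_π_app D c hc i
  haveI : CompactSpace (pullback (c.π.app i) h : Scheme.{u}) :=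
    QuasiCompact.compactSpace_of_compactSpace (pullback.snd (c.π.app i) h)
  obtain ⟨s, hs, hs'⟩ := LimLib.exists_affine_image_cover hl' hl'.coborderRange
    (fun x => subset_coborder ⟨x, rfl⟩)
  let U : c.pt.Opens := ⨆ V : s, V.1.1
  have hU : IsCompact (U : Set c.pt) := by
    rw [TopologicalSpace.Opens.coe_iSup]
    exact isCompact_iUnion fun V => V.1.2.isCompact
  have hUc : U ≤ hl'.coborderRange := iSup_le fun V => hs V.1 V.2
  have hr : ∀ x, hl' x ∈ U := fun x => by
    obtain ⟨V, hV, hx⟩ := hs' x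
    exact TopologicalSpace.Opens.mem_iSup.2 ⟨⟨V, hV⟩, hx⟩
  have hcl : IsClosedImmersion (hl' ∣_ U) := by
    haveI : IsImmersion (hl' ∣_ U) := IsZariskiLocalAtTarget.restrict (P := @IsImmersion) hl U
    refine IsClosedImmersion.of_isPreimmersion _ ?_
    have e : Set.range (hl' ∣_ U) = Subtype.val ⁻¹' closure (Set.range hl') := by
      rw [morphismRestrict_base]
      ext y
      constructor
      · rintro ⟨x, rfl⟩
        exact subset_closure ⟨x.1, rfl⟩
      · intro hy
        have : y.1 ∈ Set.range hl' :=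
          (closure_inter_coborder (s := Set.range hl')).subset ⟨hy, hUc y.2⟩
        obtain ⟨x, hx⟩ := this
        exact ⟨⟨x, show hl' x ∈ U from hx ▸ y.2⟩, Subtype.ext hx⟩
    rw [e]
    exact isClosed_closure.preimage continuous_subtype_val
  obtain ⟨j, W, hW, hP⟩ := exists_stage_over_open @IsClosedImmersion @LocallyOfFiniteType hc
    (fun hc' _ _ _ _ _ _ h hH hl => exists_stage_isClosedImmersion hc' h hH hl) h hH U hU hr hcl
  refine ⟨j, LimLib.of_restrict (P := @IsImmersion) (fun f g _ hf => inferInstance) _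
    (fun _ : Unit => W) (fun x => ⟨(), hW x⟩) fun _ => ?_⟩
  haveI := hP
  infer_instance

theorem exists_stage_isOpenImmersion (hc : IsLimit c) {i : I} [CompactSpace (D.obj i)]
    [QuasiSeparatedSpace (D.obj i)] {Z : Scheme.{u}} [CompactSpace Z] [QuasiSeparatedSpace Z]
    (h : Z ⟶ D.obj i) (hH : LocallyOfFinitePresentation h)
    (hl : IsOpenImmersion (pullback.fst (c.π.app i) h)) :
    ∃ j : Over i, IsOpenImmersion (pullback.fst (D.map j.hom) h) := by
  haveI := hl
  let hl' := pullback.fst (c.π.app i) h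
  haveI : IsAffineHom (c.π.app i) := isAffineHom_π_app D c hc i
  haveI : CompactSpace (pullback (c.π.app i) h : Scheme.{u}) :=
    QuasiCompact.compactSpace_of_compactSpace (pullback.snd (c.π.app i) h)
  have hcl : IsIso (hl' ∣_ hl'.opensRange) := by
    haveI : IsOpenImmersion (hl' ∣_ hl'.opensRange) :=
      IsZariskiLocalAtTarget.restrict (P := @IsOpenImmersion) hl _
    haveI : Surjective (hl' ∣_ hl'.opensRange) := ⟨fun y => by
      obtain ⟨x, hx⟩ := y.2
      exact ⟨⟨x, show hl' x ∈ hl'.opensRange from ⟨x, rfl⟩⟩, Subtype.ext (by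
        rw [morphismRestrict_base]; exact hx)⟩⟩
    rw [isIso_iff_isOpenImmersion_and_surjective]
    exact ⟨inferInstance, inferInstance⟩
  obtain ⟨j, W, hW, hP⟩ := exists_stage_over_open (MorphismProperty.isomorphisms Scheme)
    @LocallyOfFinitePresentation hc
    (fun hc' _ _ _ _ _ _ h hH hl => exists_stage_isIso hc' h hH hl) h hH hl'.opensRange
    (isCompact_range hl'.continuous) (fun x => ⟨x, rfl⟩) hcl
  refine ⟨j, LimLib.of_restrict (P := @IsOpenImmersion) (fun f g _ hf => inferInstance) _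
    (fun _ : Unit => W) (fun x => ⟨(), hW x⟩) fun _ => ?_⟩
  haveI : IsIso _ := hP
  infer_instance

/-- Descent for base changes of morphisms of qcqs schemes over a stage. -/
theorem exists_stage_descend (P H : MorphismProperty Scheme.{u}) [P.IsStableUnderBaseChange]
    [H.IsStableUnderBaseChange]
    (core : ∀ {J : Type u} [SmallCategory J] [IsCofiltered J] {D' : J ⥤ Scheme.{u}}
      [∀ {a b : J} (f : a ⟶ b), IsAffineHom (D'.map f)] {c' : Cone D'} (_ : IsLimit c') {o : J}
      [CompactSpace (D'.obj o)] [QuasiSeparatedSpace (D'.obj o)] {Z : Scheme.{u}} [CompactSpace Z]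
      [QuasiSeparatedSpace Z] (h : Z ⟶ D'.obj o), H h → P (pullback.fst (c'.π.app o) h) →
        ∃ j : Over o, P (pullback.fst (D'.map j.hom) h))
    (hc : IsLimit c) {i₀ : I} {X₀ Y₀ X Y : Scheme.{u}} [CompactSpace X₀] [QuasiSeparatedSpace X₀]
    [CompactSpace Y₀] [QuasiSeparatedSpace Y₀] {f₀ : X₀ ⟶ Y₀} {g₀ : Y₀ ⟶ D.obj i₀} {f : X ⟶ Y}
    {g : Y ⟶ c.pt} {qY : Y ⟶ Y₀} {qX : X ⟶ X₀} (hH : H f₀)
    (hY : IsPullback qY g g₀ (c.π.app i₀)) (hX : IsPullback qX f f₀ qY) (hP : P f) :
    ∃ (i : I) (φ : i ⟶ i₀) (Xi Yi : Scheme.{u}) (fi : Xi ⟶ Yi) (gi : Yi ⟶ D.obj i) (pY : Yi ⟶ Y₀)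
      (pX : Xi ⟶ X₀), IsPullback pY gi g₀ (D.map φ) ∧ IsPullback pX fi f₀ pY ∧ P fi := by
  refine exists_stage_of_target P hY hX hP fun h he hl => ?_
  let o : Over i₀ := Over.mk (𝟙 i₀)
  haveI : IsAffineHom (pullback.snd (D.map o.hom) g₀) :=
    MorphismProperty.pullback_snd _ _ inferInstance
  haveI : CompactSpace ((LimLib.bcDiagram D g₀).obj o) :=
    (QuasiCompact.compactSpace_of_compactSpace (pullback.snd (D.map o.hom) g₀) :
      CompactSpace (pullback (D.map o.hom) g₀ : Scheme.{u}))
  haveI : QuasiSeparatedSpace ((LimLib.bcDiagram D g₀).obj o) :=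
    (quasiSeparatedSpace_of_quasiSeparated (pullback.snd (D.map o.hom) g₀) :
      QuasiSeparatedSpace (pullback (D.map o.hom) g₀ : Scheme.{u}))
  haveI : IsIso (D.map o.hom) := by
    show IsIso (D.map (𝟙 i₀))
    rw [D.map_id]; infer_instance
  let E : (LimLib.bcDiagram D g₀).obj o ≅ Y₀ :=
    @asIso _ _ _ _ (pullback.snd (D.map o.hom) g₀)
      (IsPullback.of_hasPullback (D.map o.hom) g₀).isIso_snd_of_isIso
  refine core (LimLib.isLimitBcCone g₀ hc) h ?_ hl
  exact (H.arrow_mk_iso_iff (Arrow.isoMk (f := Arrow.mk h) (g := Arrow.mk f₀) (Iso.refl _) E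
    ((Category.id_comp _).trans he.symm))).2 hH

end Groth.Agent.FibConstr
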