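import Groth.Agent.FibConstr.Descent
import Groth.Agent.FlatDescent.Colimit
import Groth.Agent.EtAlgLib.EtaleColim
import Groth.Agent.EtAlgLib.FiniteColim

/-!
Ring-theoretic descent along directed colimits gives descent along limits of affine schemes; the
cases of flat, smooth, etale and unramified morphisms.
-/

set_option autoImplicit false
set_option backward.isDefEq.respectTransparency.types false

universe u

open AlgebraicGeometry CategoryTheory Limits TensorProduct

namespace Groth.Agent.FibConstr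

/-- A property of ring maps descends along directed colimits of base rings, for the base changes of a
finitely presented algebra. -/
def RingDescends (Q : ∀ {R S : Type u} [CommRing R] [CommRing S], (R →+* S) → Prop) : Prop :=
  ∀ {A₀ : Type u} [CommRing A₀] {ι : Type u} [Preorder ι] [IsDirected ι (· ≤ ·)] [Nonempty ι]
    {G : ι → Type u} [∀ i, CommRing (G i)] [∀ i, Algebra A₀ (G i)]
    (g : ∀ i j, i ≤ j → G i →ₐ[A₀] G j) {A : Type u} [CommRing A] [Algebra A₀ A]
    (ψ : ∀ i, G i →ₐ[A₀] A), (∀ i, g i i le_rfl = AlgHom.id A₀ (G i)) →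
    (∀ i j k (h : i ≤ j) (h' : j ≤ k), (g j k h').comp (g i j h) = g i k (h.trans h')) →
    (∀ i j (h : i ≤ j), (ψ j).comp (g i j h) = ψ i) →
    (∀ a : A, ∃ i, ∃ x, ψ i x = a) →
    (∀ i x, ψ i x = 0 → ∃ j, ∃ h : i ≤ j, g i j h x = 0) →
    ∀ {C₀ : Type u} [CommRing C₀] [Algebra A₀ C₀] [Algebra.FinitePresentation A₀ C₀],
      Q (algebraMap A (A ⊗[A₀] C₀)) → ∃ i, Q (algebraMap (G i) (G i ⊗[A₀] C₀))

section Ring

variable {A₀ : Type u} [CommRing A₀] {ι : Type u} [Preorder ι] {G : ι → Type u} [∀ i, CommRing (G i)]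
  [∀ i, Algebra A₀ (G i)] {g : ∀ i j, i ≤ j → G i →ₐ[A₀] G j} {A : Type u} [CommRing A] [Algebra A₀ A]
  {ψ : ∀ i, G i →ₐ[A₀] A}

theorem over_ker (hg : ∀ i j (h : i ≤ j), (ψ j).comp (g i j h) = ψ i)
    (hker : ∀ i x, ψ i x = 0 → ∃ j, ∃ h : i ≤ j, g i j h x = 0) (i : ι) (x : G i) (hx : ψ i x = 0) :
    ∃ j, ∃ θ : EtAlgLib.Over ψ i j, θ.1 x = 0 := by
  obtain ⟨j, h, hj⟩ := hker i x hx
  exact ⟨j, ⟨g i j h, hg i j h⟩, hj⟩

end Ring

theorem ringDescends_smooth : RingDescends.{u} RingHom.Smooth := by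
  intro A₀ _ ι _ _ _ G _ _ g A _ _ ψ _ _ hg hs hk C₀ _ _ _ h
  obtain ⟨i, -, hi⟩ := EtAlgLib.exists_smooth_index g ψ hg hs (over_ker hg hk)
    (RingHom.smooth_algebraMap.1 h)
  exact ⟨i, RingHom.smooth_algebraMap.2 (hi i ⟨AlgHom.id _ _, AlgHom.comp_id _⟩)⟩

theorem ringDescends_etale : RingDescends.{u} RingHom.Etale := by
  intro A₀ _ ι _ _ _ G _ _ g A _ _ ψ _ _ hg hs hk C₀ _ _ _ h
  obtain ⟨i, hi⟩ := EtAlgLib.exists_etale_index g ψ hg hs (over_ker hg hk)
    (RingHom.etale_algebraMap.1 h)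
  exact ⟨i, RingHom.etale_algebraMap.2 hi⟩

theorem ringDescends_formallyUnramified : RingDescends.{u} RingHom.FormallyUnramified := by
  intro A₀ _ ι _ _ _ G _ _ g A _ _ ψ _ _ hg hs hk C₀ _ _ _ h
  haveI := RingHom.formallyUnramified_algebraMap.1 h
  obtain ⟨i, hi⟩ := EtAlgLib.exists_unramified_index g ψ hg hs (over_ker hg hk) (C₀ := C₀) ⟨inferInstance, inferInstance⟩
  exact ⟨i, RingHom.formallyUnramified_algebraMap.2 hi.1⟩

theorem ringDescends_flat : RingDescends.{u} RingHom.Flat := by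
  intro A₀ _ ι _ hd hne G _ _ g A _ _ ψ hid hcomp hg hs hk C₀ _ _ _ h
  letI : ∀ i, Algebra (G i) A := fun i => (ψ i).toRingHom.toAlgebra
  haveI : ∀ i, IsScalarTower A₀ (G i) A := fun i => IsScalarTower.of_algebraMap_eq fun x => ((ψ i).commutes x).symm
  have hcol : FlatCA.IsDirectedColimitRing G (fun i j h => (g i j h).toRingHom) A :=
    ⟨hd, hne, fun i => congrArg AlgHom.toRingHom (hid i),
      fun i j k h h' => congrArg AlgHom.toRingHom (hcomp i j k h h'),
      fun i j h => congrArg AlgHom.toRingHom (hg i j h), hs, hk⟩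
  obtain ⟨i, hi⟩ := (Groth.FlatDescent.flat_iff_exists_stage (B₀ := C₀) g hcol C₀).1
    (RingHom.flat_algebraMap_iff.1 h)
  exact ⟨i, RingHom.flat_algebraMap_iff.2 hi⟩

/-- The ring map of a base change of affine schemes has the property iff the tensor product has. -/
theorem fst_iff_algebraMap {Q : ∀ {R S : Type u} [CommRing R] [CommRing S], (R →+* S) → Prop}
    (hQ : RingHom.RespectsIso Q) {X S Z : Scheme.{u}} [IsAffine X] [IsAffine S] [IsAffine Z]
    (a : X ⟶ S) (h : Z ⟶ S) :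
    Q (pullback.fst a h).appTop.hom ↔
      letI := a.appTop.hom.toAlgebra
      letI := h.appTop.hom.toAlgebra
      Q (algebraMap Γ(X, ⊤) (Γ(X, ⊤) ⊗[Γ(S, ⊤)] Γ(Z, ⊤))) := by
  letI := a.appTop.hom.toAlgebra
  letI := h.appTop.hom.toAlgebra
  let e := ((CommRingCat.isPushout_tensorProduct Γ(S, ⊤) Γ(X, ⊤) Γ(Z, ⊤)).isoIsPushout _ _
    (isPushout_appTop_of_isPullback (IsPullback.of_hasPullback a h)))
  have he : (pullback.fst a h).appTop.hom =
      e.hom.hom.comp (algebraMap Γ(X, ⊤) (Γ(X, ⊤) ⊗[Γ(S, ⊤)] Γ(Z, ⊤))) :=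
    (congrArg CommRingCat.Hom.hom (IsPushout.inl_isoIsPushout_hom _ _
      (CommRingCat.isPushout_tensorProduct Γ(S, ⊤) Γ(X, ⊤) Γ(Z, ⊤))
      (isPushout_appTop_of_isPullback (IsPullback.of_hasPullback a h)))).symm
  rw [he]
  refine ⟨fun H => ?_, fun H => hQ.1 _ e.commRingCatIsoToRingEquiv H⟩
  have H' := hQ.1 _ e.commRingCatIsoToRingEquiv.symm H
  refine Eq.mp ?_ H'
  congr 1
  exact RingHom.ext fun x => e.commRingCatIsoToRingEquiv.symm_apply_apply _

theorem affineDescends_of_ringDescends (P : MorphismProperty Scheme.{u})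
    {Q : ∀ {R S : Type u} [CommRing R] [CommRing S], (R →+* S) → Prop} [HasRingHomProperty P Q]
    (hd : RingDescends Q) : AffineDescends @LocallyOfFinitePresentation P := by
  intro J _ _ D _ c hc o Z _ h hh hl
  haveI : IsAffine (((Functor.const J).obj c.pt).obj o) := Scheme.isAffine_of_isLimit _ hc
  haveI : IsAffine c.pt := Scheme.isAffine_of_isLimit _ hc
  have hQ : RingHom.RespectsIso Q := (HasRingHomProperty.isLocal_ringHomProperty P).respectsIso
  obtain ⟨α, _, _, _, F, _⟩ := IsFiltered.exists_directed ((Over o)ᵒᵖ)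
  letI := h.appTop.hom.toAlgebra
  letI : Algebra Γ(D.obj o, ⊤) Γ(c.pt, ⊤) := (c.π.app o).appTop.hom.toAlgebra
  letI : ∀ a : α, Algebra Γ(D.obj o, ⊤) Γ(D.obj (F.obj a).unop.left, ⊤) := fun a =>
    (D.map (F.obj a).unop.hom).appTop.hom.toAlgebra
  haveI : Algebra.FinitePresentation Γ(D.obj o, ⊤) Γ(Z, ⊤) :=
    HasRingHomProperty.appTop (P := @LocallyOfFinitePresentation) h hh
  let g : ∀ a b : α, a ≤ b → Γ(D.obj (F.obj a).unop.left, ⊤) →ₐ[Γ(D.obj o, ⊤)] Γ(D.obj (F.obj b).unop.left, ⊤) :=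
    fun a b hab =>
      { (D.map (F.map (homOfLE hab)).unop.left).appTop.hom with
        commutes' := fun x => by
          show ((D.map (F.obj a).unop.hom).appTop ≫ (D.map (F.map (homOfLE hab)).unop.left).appTop) x =
            (D.map (F.obj b).unop.hom).appTop x
          rw [← Scheme.Hom.comp_appTop, ← D.map_comp, Over.w] }
  let ψ : ∀ a : α, Γ(D.obj (F.obj a).unop.left, ⊤) →ₐ[Γ(D.obj o, ⊤)] Γ(c.pt, ⊤) := fun a =>
    { (c.π.app (F.obj a).unop.left).appTop.hom with
      commutes' := fun x => by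
        show ((D.map (F.obj a).unop.hom).appTop ≫ (c.π.app (F.obj a).unop.left).appTop) x =
          (c.π.app o).appTop x
        rw [← Scheme.Hom.comp_appTop, c.w] }
  have hfin := (Functor.final_iff_of_isFiltered F).1 inferInstance
  have hid : ∀ a, g a a le_rfl = AlgHom.id _ _ := by
    intro a
    refine AlgHom.ext fun x => ?_
    show (D.map (F.map (homOfLE (le_refl a))).unop.left).appTop x = x
    rw [show F.map (homOfLE (le_refl a)) = 𝟙 _ from F.map_id a]
    simp only [unop_id, Over.id_left, Functor.map_id, Scheme.Hom.id_appTop]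
    erw [D.map_id, Scheme.Hom.id_appTop]
    rfl
  have hcomp : ∀ a b e (hab : a ≤ b) (hbe : b ≤ e), (g b e hbe).comp (g a b hab) = g a e (hab.trans hbe) := by
    intro a b e hab hbe
    refine AlgHom.ext fun x => ?_
    show ((D.map (F.map (homOfLE hab)).unop.left).appTop ≫ (D.map (F.map (homOfLE hbe)).unop.left).appTop) x =
      (D.map (F.map (homOfLE (hab.trans hbe))).unop.left).appTop x
    rw [← Scheme.Hom.comp_appTop, ← D.map_comp, ← Over.comp_left, ← unop_comp, ← F.map_comp, homOfLE_comp]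
  have hg : ∀ a b (hab : a ≤ b), (ψ b).comp (g a b hab) = ψ a := by
    intro a b hab
    refine AlgHom.ext fun x => ?_
    show ((D.map (F.map (homOfLE hab)).unop.left).appTop ≫ (c.π.app (F.obj b).unop.left).appTop) x =
      (c.π.app (F.obj a).unop.left).appTop x
    rw [← Scheme.Hom.comp_appTop, c.w]
  have hs : ∀ x, ∃ a, ∃ y, ψ a y = x := by
    intro x
    obtain ⟨i, t, rfl⟩ := exists_appTop_π_eq_of_isAffine_of_isLimit D c hc x
    obtain ⟨a, ⟨f⟩⟩ := hfin.1 (Opposite.op (Over.mk (IsCofiltered.minToLeft o i)))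
    refine ⟨a, (D.map (f.unop.left ≫ IsCofiltered.minToRight o i)).appTop t, ?_⟩
    show ((D.map _).appTop ≫ (c.π.app (F.obj a).unop.left).appTop) t = _
    rw [← Scheme.Hom.comp_appTop, c.w]
  have hk : ∀ a x, ψ a x = 0 → ∃ b, ∃ h : a ≤ b, g a b h x = 0 := by
    intro a x hx
    obtain ⟨i, f, hf⟩ := exists_appTop_map_eq_zero_of_isAffine_of_isLimit D c hc _ x hx
    let k : Over o := Over.mk (f ≫ (F.obj a).unop.hom)
    let s : F.obj a ⟶ Opposite.op k := (Over.homMk f : k ⟶ (F.obj a).unop).op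
    obtain ⟨e, ⟨t⟩⟩ := hfin.1 (Opposite.op k)
    obtain ⟨b, hab, heb⟩ := exists_ge_ge a e
    obtain ⟨d, r, hr⟩ := hfin.2 (s ≫ t ≫ F.map (homOfLE heb)) (F.map (homOfLE hab))
    refine ⟨d, hab.trans (leOfHom r), ?_⟩
    show (D.map (F.map (homOfLE (hab.trans (leOfHom r)))).unop.left).appTop x = 0
    rw [show F.map (homOfLE (hab.trans (leOfHom r))) = (s ≫ t ≫ F.map (homOfLE heb)) ≫ F.map r from by
      rw [hr, ← F.map_comp]; congr 1]
    simp only [Category.assoc, unop_comp, Over.comp_left, Functor.map_comp, Scheme.Hom.comp_appTop]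
    simp [s, hf]
  obtain ⟨a, ha⟩ := hd g ψ hid hcomp hg hs hk (C₀ := Γ(Z, ⊤))
    ((fst_iff_algebraMap hQ (c.π.app o) h).1 ((HasRingHomProperty.iff_of_isAffine (P := P)).1 hl))
  exact ⟨(F.obj a).unop, (HasRingHomProperty.iff_of_isAffine (P := P)).2
      ((fst_iff_algebraMap hQ (D.map (F.obj a).unop.hom) h).2 ha)⟩

theorem affineDescends_flat : AffineDescends @LocallyOfFinitePresentation @Flat :=
  affineDescends_of_ringDescends @Flat ringDescends_flat

theorem affineDescends_smooth : AffineDescends @LocallyOfFinitePresentation @Smooth :=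
  affineDescends_of_ringDescends @Smooth ringDescends_smooth

theorem affineDescends_etale : AffineDescends @LocallyOfFinitePresentation @Etale :=
  affineDescends_of_ringDescends @Etale ringDescends_etale

theorem affineDescends_formallyUnramified :
    AffineDescends @LocallyOfFinitePresentation @FormallyUnramified :=
  affineDescends_of_ringDescends @FormallyUnramified ringDescends_formallyUnramified

end Groth.Agent.FibConstr
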