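import Groth.Agent.NoethApprox.Basic
import Groth.Agent.ConstrBasics.Basic
import Groth.Agent.ProConsLib.Preimage

/-!
Constructibility of loci of fibre properties that spread out from generic points.
-/

universe u

open AlgebraicGeometry CategoryTheory Topology TopologicalSpace

namespace Groth.Agent.FibConstr

/-- Noetherian induction: a set that is generically all or nothing on every irreducible closed set is
constructible. -/
theorem isConstructible_of_generic {X : Type u} [TopologicalSpace X] [NoetherianSpace X] (E : Set X)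
    (h : ∀ Z : Set X, IsClosed Z → IsIrreducible Z →
      ∃ U, IsOpen U ∧ (Z ∩ U).Nonempty ∧ (Z ∩ U ⊆ E ∨ Disjoint (Z ∩ U) E)) :
    IsConstructible E := by
  have hopen : ∀ U : Set X, IsOpen U → IsConstructible U := fun U hU =>
    IsRetrocompact.isConstructible hU (fun _ _ _ => NoetherianSpace.isCompact _)
  have hclosed : ∀ Z : Set X, IsClosed Z → IsConstructible Z := fun Z hZ =>
    compl_compl Z ▸ (hopen _ hZ.isOpen_compl).compl
  suffices key : ∀ Z : Closeds X, IsConstructible ((Z : Set X) ∩ E) by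
    simpa using key ⊤
  intro Z
  induction Z using WellFoundedLT.induction with
  | ind Z ih =>
    rcases Set.eq_empty_or_nonempty (Z : Set X) with he | hne
    · simp [he]
    by_cases hpi : IsPreirreducible (Z : Set X)
    · obtain ⟨U, hU, ⟨y, hyZ, hyU⟩, hUE⟩ := h Z Z.isClosed ⟨hne, hpi⟩
      let Z' : Closeds X := ⟨(Z : Set X) ∩ Uᶜ, Z.isClosed.inter hU.isClosed_compl⟩
      have hlt : Z' < Z := lt_of_le_of_ne (fun z hz => hz.1) fun e =>
        (e.symm ▸ hyZ : y ∈ (Z' : Set X)).2 hyU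
      have hsplit : (Z : Set X) ∩ E = ((Z : Set X) ∩ U ∩ E) ∪ ((Z' : Set X) ∩ E) := by
        ext z
        by_cases hz : z ∈ U <;> simp [Z', hz]
      rw [hsplit]
      refine IsConstructible.union ?_ (ih Z' hlt)
      rcases hUE with hin | hdis
      · rw [Set.inter_eq_left.2 hin]
        exact (hclosed _ Z.isClosed).inter (hopen _ hU)
      · rw [Set.disjoint_iff_inter_eq_empty.1 hdis]
        exact IsConstructible.empty
    · rw [isPreirreducible_iff_isClosed_union_isClosed] at hpi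
      push Not at hpi
      obtain ⟨A, B, hA, hB, hsub, hnA, hnB⟩ := hpi
      let ZA : Closeds X := ⟨(Z : Set X) ∩ A, Z.isClosed.inter hA⟩
      let ZB : Closeds X := ⟨(Z : Set X) ∩ B, Z.isClosed.inter hB⟩
      have hsplit : (Z : Set X) ∩ E = ((ZA : Set X) ∩ E) ∪ ((ZB : Set X) ∩ E) := by
        ext z
        refine ⟨fun hz => (hsub hz.1).imp (fun h' => ⟨⟨hz.1, h'⟩, hz.2⟩) fun h' => ⟨⟨hz.1, h'⟩, hz.2⟩, ?_⟩
        rintro (⟨⟨h1, -⟩, h2⟩ | ⟨⟨h1, -⟩, h2⟩) <;> exact ⟨h1, h2⟩
      rw [hsplit]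
      refine (ih ZA (lt_of_le_of_ne (fun z hz => hz.1) fun e => hnA fun z hz => ?_)).union
        (ih ZB (lt_of_le_of_ne (fun z hz => hz.1) fun e => hnB fun z hz => ?_))
      · exact ((e.symm ▸ hz : z ∈ (ZA : Set X))).2
      · exact ((e.symm ▸ hz : z ∈ (ZB : Set X))).2

/-- A property of fibres that is invariant under base change and spreads out from generic points. -/
structure Spreads (Φ : ∀ ⦃X Y : Scheme.{u}⦄, (X ⟶ Y) → Y → Prop) : Prop where
  bc : ∀ ⦃X Y X' Y' : Scheme.{u}⦄ (f : X ⟶ Y) (g : Y' ⟶ Y) (f' : X' ⟶ Y') (g' : X' ⟶ X),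
    IsPullback g' f' f g → LocallyOfFiniteType f → ∀ y : Y', (Φ f' y ↔ Φ f (g y))
  spread : ∀ ⦃X Y : Scheme.{u}⦄ (f : X ⟶ Y) [IrreducibleSpace Y] [IsNoetherian Y] [LocallyOfFiniteType f]
    [QuasiCompact f], ∃ V : Y.Opens, (V : Set Y).Nonempty ∧ ((∀ y ∈ V, Φ f y) ∨ ∀ y ∈ V, ¬ Φ f y)

variable {Φ : ∀ ⦃X Y : Scheme.{u}⦄, (X ⟶ Y) → Y → Prop}

theorem isConstructible_of_isNoetherian (hΦ : Spreads Φ) {X Y : Scheme.{u}} (f : X ⟶ Y) [IsNoetherian Y]
    [LocallyOfFiniteType f] [QuasiCompact f] : IsConstructible {y : Y | Φ f y} := by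
  refine isConstructible_of_generic _ fun Z hZ hirr => ?_
  let I := Scheme.IdealSheafData.vanishingIdeal (⟨Z, hZ⟩ : Closeds Y)
  let i := I.subschemeι
  have hri : Set.range i = Z := by
    rw [Scheme.IdealSheafData.range_subschemeι, Scheme.IdealSheafData.coe_support_vanishingIdeal]
    rfl
  have : IsNoetherian I.subscheme :=
    { __ := LocallyOfFiniteType.isLocallyNoetherian i
      __ := QuasiCompact.compactSpace_of_compactSpace i }
  have : IrreducibleSpace I.subscheme := by
    let e : I.subscheme ≃ₜ (Z : Set Y) := i.isClosedEmbedding.isEmbedding.toHomeomorph.trans (.setCongr hri)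
    have : IrreducibleSpace (Z : Set Y) := Subtype.irreducibleSpace hirr
    exact e.symm.surjective.irreducibleSpace e.symm.continuous
  obtain ⟨V, ⟨v, hv⟩, hVΦ⟩ := hΦ.spread (Limits.pullback.snd f i)
  obtain ⟨U, hU, hUV⟩ := i.isClosedEmbedding.isEmbedding.isOpen_iff.1 V.2
  have hbc := hΦ.bc f i _ _ (IsPullback.of_hasPullback f i) inferInstance
  refine ⟨U, hU, ⟨i v, hri.le ⟨v, rfl⟩, hUV.ge hv⟩, hVΦ.imp (fun h => ?_) fun h => ?_⟩
  · rintro z ⟨hzZ, hzU⟩
    obtain ⟨w, rfl⟩ := hri.ge hzZ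
    exact (hbc w).1 (h w (hUV.le hzU))
  · rw [Set.disjoint_left]
    rintro z ⟨hzZ, hzU⟩ hz
    obtain ⟨w, rfl⟩ := hri.ge hzZ
    exact h w (hUV.le hzU) ((hbc w).2 hz)

/-- The locus of such a property is constructible for affine morphisms of finite presentation. -/
theorem isLocallyConstructible_of_isAffine (hΦ : Spreads Φ) {X Y : Scheme.{u}} (f : X ⟶ Y) [IsAffine X] [IsAffine Y]
    [LocallyOfFinitePresentation f] : IsLocallyConstructible {y : Y | Φ f y} := by
  obtain ⟨X₀, S₀, f₀, g, g', _, _, hpb, hft, hf₀, -⟩ := NoethApprox.exists_approx f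
  have : IsNoetherianRing Γ(S₀, ⊤) := Algebra.FiniteType.isNoetherianRing ℤ _
  have : IsNoetherian S₀ :=
    { __ := LocallyOfFiniteType.isLocallyNoetherian S₀.isoSpec.hom }
  have h0 := isConstructible_of_isNoetherian hΦ f₀
  have e : {y : Y | Φ f y} = g ⁻¹' {z | Φ f₀ z} := Set.ext fun y => hΦ.bc f₀ g f g' hpb inferInstance y
  rw [e]
  exact ProConsLib.isLocallyConstructible_preimage g h0.isLocallyConstructible

/-- The locus of points where the property holds for the piece over an affine open. -/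
theorem isLocallyConstructible_resLE (hΦ : Spreads Φ) {X Y : Scheme.{u}} (f : X ⟶ Y) [LocallyOfFinitePresentation f]
    {V : Y.Opens} (hV : IsAffineOpen V) {U : X.Opens} (hU : IsAffineOpen U) (h : U ≤ f ⁻¹ᵁ V) :
    IsLocallyConstructible {y : (V : Scheme.{u}) | Φ (f.resLE V U h) y} := by
  haveI : IsAffine (U : Scheme.{u}) := hU
  haveI : IsAffine (V : Scheme.{u}) := hV
  haveI : LocallyOfFinitePresentation (f.resLE V U h) := by
    delta Scheme.Hom.resLE; infer_instance
  exact isLocallyConstructible_of_isAffine hΦ (f.resLE V U h)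

end Groth.Agent.FibConstr
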