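import Groth.Agent.FibConstr.Dim
import Groth.Agent.GenericFinite.Basic
import Groth.Prelude.Def_EGA4Misc

/-!
Constructible properties of algebraic schemes defined through dimension.
-/

universe u

open AlgebraicGeometry CategoryTheory Limits

namespace Groth.Agent.FibConstr

theorem isFieldStable_dim (Φ : Set (WithBot ℕ∞)) :
    ConsProp.IsFieldStable (fun Y T (_ : Y ⟶ T) => topologicalKrullDim ↥Y ∈ Φ) := by
  intro Y Y' T T' g g' e h _ _ _ _ _ _ hpb
  obtain ⟨t⟩ := (inferInstance : Nonempty ↥T')
  beta_reduce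
  rw [dim_eq_dim_fibre g (h t), dim_eq_dim_fibre g' t, dim_fibre_bc g h g' e hpb t]

theorem isCons_dim (Φ : Set (WithBot ℕ∞)) :
    ConsProp.IsCons (fun Y T (_ : Y ⟶ T) => topologicalKrullDim ↥Y ∈ Φ) := by
  refine ⟨isFieldStable_dim Φ, fun X S u _ _ _ _ => ?_⟩
  obtain ⟨V, ⟨v, hv⟩, hV⟩ := exists_nhd_dim_eq u
  by_cases h : topologicalKrullDim ↥(u.fiber (genericPoint S)) ∈ Φ
  · exact Or.inl ⟨v, interior_maximal (fun s hs => (hV s hs ▸ h : topologicalKrullDim ↥(u.fiber s) ∈ Φ)) V.2 hv⟩
  · exact Or.inr ⟨v, interior_maximal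
      (fun s hs hc => h ((hV s hs) ▸ (hc : topologicalKrullDim ↥(u.fiber s) ∈ Φ))) V.2 hv⟩

/-- Over a one-point Noetherian base finiteness is dimension at most zero. -/
theorem isFinite_iff_dim_le {Y T : Scheme.{u}} (g : Y ⟶ T) [IsIntegral T] [Subsingleton T] [LocallyOfFiniteType g]
    [QuasiCompact g] [IsLocallyNoetherian T] : IsFinite g ↔ topologicalKrullDim ↥Y ≤ 0 := by
  obtain ⟨t⟩ := (inferInstance : Nonempty ↥T)
  haveI : IsLocallyNoetherian Y := LocallyOfFiniteType.isLocallyNoetherian g
  haveI : QuasiSeparated g := inferInstance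
  have huniv : g ⁻¹' {t} = Set.univ := Set.eq_univ_of_forall fun x => Subsingleton.elim _ _
  have hmax : closure {t} ∈ irreducibleComponents ↥T :=
    GenericFinite.mem_components_of_forall fun a _ => Subsingleton.elim _ _
  constructor
  · intro _
    haveI : Finite ↥Y := Set.finite_univ_iff.1 (huniv ▸ g.finite_preimage_singleton t)
    haveI : DiscreteTopology ↥Y := by
      have h := (g.isDiscrete_preimage_singleton t)
      rw [huniv] at h
      exact isDiscrete_univ_iff.1 h
    exact topologicalKrullDim_zero_of_discreteTopology _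
  · intro h
    haveI : CompactSpace ↥Y := ⟨by rw [← huniv]; exact g.isCompact_preimage_singleton t⟩
    haveI : IsNoetherian Y := { }
    haveI : Finite ↥Y := by
      have hfin : (irreducibleComponents ↥Y).Finite := TopologicalSpace.NoetherianSpace.finite_irreducibleComponents
      have hmin : ∀ y : Y, ∀ a : Y, a ⤳ y → a = y := fun y a ha => by
        let P : Y → TopologicalSpace.IrreducibleCloseds ↥Y := fun d =>
          ⟨closure {d}, isIrreducible_singleton.closure, isClosed_closure⟩
        have hle : P y ≤ P a := specializes_iff_closure_subset.1 ha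
        exact (ha.antisymm (specializes_iff_closure_subset.2
          ((Order.krullDim_nonpos_iff_forall_isMax.1 h (P y)) hle))).eq
      refine Set.finite_univ_iff.1 ((hfin.preimage (f := fun y : Y => closure {y})
        (fun _ _ _ _ e => (inseparable_iff_closure_eq.2 e).eq)).subset fun y _ =>
          GenericFinite.mem_components_of_forall (hmin y))
    obtain ⟨V, -, htV, hV⟩ := (GenericFinite.finite_preimage_iff g t hmax).1 (Set.toFinite _)
    have htop : V = ⊤ := eq_top_iff.2 fun x _ => Subsingleton.elim t x ▸ htV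
    subst htop
    exact IsZariskiLocalAtTarget.of_iSup_eq_top (P := @IsFinite) (fun _ : PUnit.{1} => (⊤ : T.Opens)) (iSup_const) fun _ => hV

theorem isLocallyNoetherian_of_point (T : Scheme.{u}) [IsIntegral T] [Subsingleton T] : IsLocallyNoetherian T := by
  obtain ⟨_, ⟨V, hV, rfl⟩, hV', -⟩ := T.isBasis_affineOpens.exists_subset_of_mem_open
    (Set.mem_univ (genericPoint T)) isOpen_univ
  have htop : V = ⊤ := eq_top_iff.2 fun x _ => Subsingleton.elim (genericPoint T) x ▸ hV'
  subst htop
  haveI : IsAffine ((⊤ : T.Opens) : Scheme.{u}) := hV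
  haveI : IsAffine T := IsAffine.of_isIso (Scheme.topIso T).inv
  haveI : Subsingleton (PrimeSpectrum Γ(T, ⊤)) := T.isoSpec.inv.isOpenEmbedding.injective.subsingleton
  haveI : IsDomain Γ(T, ⊤) := inferInstance
  have hfld : IsField Γ(T, ⊤) := by
    by_contra hc
    obtain ⟨p, hp, hp'⟩ := Ring.not_isField_iff_exists_prime.1 hc
    exact hp (congrArg PrimeSpectrum.asIdeal (Subsingleton.elim (⟨p, hp'⟩ : PrimeSpectrum Γ(T, ⊤)) ⟨⊥, Ideal.isPrime_bot⟩))
  letI := hfld.toField
  exact LocallyOfFiniteType.isLocallyNoetherian T.isoSpec.hom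

theorem isCons_isFinite : ConsProp.IsCons.{u} (fun Y T g => AlgebraicGeometry.IsFinite g) := by
  have key : ∀ {Y T : Scheme.{u}} (g : Y ⟶ T) [IsIntegral T] [Subsingleton T] [LocallyOfFiniteType g] [QuasiCompact g],
      IsFinite g ↔ topologicalKrullDim ↥Y ∈ Set.Iic (0 : WithBot ℕ∞) := fun {Y T} g _ _ _ _ => by
    haveI := isLocallyNoetherian_of_point T
    exact isFinite_iff_dim_le g
  obtain ⟨h1, h2⟩ := isCons_dim.{u} (Set.Iic (0 : WithBot ℕ∞))
  refine ⟨fun Y Y' T T' g g' e h _ _ _ _ _ _ hpb => ?_, fun X S u _ _ _ _ => ?_⟩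
  · haveI : LocallyOfFiniteType g' := MorphismProperty.of_isPullback hpb inferInstance
    haveI : QuasiCompact g' := MorphismProperty.of_isPullback hpb inferInstance
    beta_reduce
    rw [key g, key g']
    exact h1 g g' e h hpb
  · have e : ConsProp.locus (fun Y T g => AlgebraicGeometry.IsFinite g) u =
        ConsProp.locus (fun Y T (_ : Y ⟶ T) => topologicalKrullDim ↥Y ∈ Set.Iic (0 : WithBot ℕ∞)) u := by
      ext s
      haveI : LocallyOfFiniteType (u.fiberToSpecResidueField s) := MorphismProperty.pullback_snd _ _ inferInstance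
      haveI : QuasiCompact (u.fiberToSpecResidueField s) := MorphismProperty.pullback_snd _ _ inferInstance
      exact key _
    rw [e]
    exact h2 u

end Groth.Agent.FibConstr
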