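import Groth.Agent.LimLib.BaseChange

/-!
Eventual properties of the base changes of a morphism from eventual properties over a fixed target.
-/

set_option autoImplicit false
set_option backward.isDefEq.respectTransparency.types false

universe u

open AlgebraicGeometry CategoryTheory Limits

namespace Groth.Agent.FibConstr

variable {I : Type u} [SmallCategory I] [IsCofiltered I] {D : I ⥤ Scheme.{u}}
  [∀ {i j : I} (f : i ⟶ j), IsAffineHom (D.map f)] {c : Cone D}
  {i₀ : I} {X₀ Y₀ X Y : Scheme.{u}} {f₀ : X₀ ⟶ Y₀} {g₀ : Y₀ ⟶ D.obj i₀} {f : X ⟶ Y} {g : Y ⟶ c.pt}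
  {qY : Y ⟶ Y₀} {qX : X ⟶ X₀}

/-- A property of morphisms to a fixed target that is eventual along limits, and that is insensitive
to affine morphisms of the target, is eventual for base changes. -/
theorem exists_stage_hom (P : MorphismProperty Scheme.{u}) [P.RespectsIso]
    (hcomp : ∀ ⦃A B C : Scheme.{u}⦄ (a : A ⟶ B) (b : B ⟶ C), IsAffineHom b → (P (a ≫ b) ↔ P a))
    (hev : ∀ (D' : Over i₀ ⥤ Scheme.{u}) (t : D' ⟶ (Functor.const (Over i₀)).obj Y₀) (c' : Cone D') (_ : IsLimit c')
      [∀ (i j : Over i₀) (a : i ⟶ j), IsAffineHom (D'.map a)] [∀ i, CompactSpace (D'.obj i)]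
      [∀ i, QuasiSeparatedSpace (D'.obj i)] (o : Over i₀), P (c'.π.app o ≫ t.app o) →
        ∃ i₁, ∀ i, (i ⟶ i₁) → P (t.app i))
    (hc : IsLimit c) [CompactSpace X₀] [QuasiSeparatedSpace X₀]
    (hY : IsPullback qY g g₀ (c.π.app i₀)) (hX : IsPullback qX f f₀ qY) (hP : P f) :
    ∃ (i : I) (φ : i ⟶ i₀) (Xi Yi : Scheme.{u}) (fi : Xi ⟶ Yi) (gi : Yi ⟶ D.obj i) (pY : Yi ⟶ Y₀)
      (pX : Xi ⟶ X₀), IsPullback pY gi g₀ (D.map φ) ∧ IsPullback pX fi f₀ pY ∧ P fi := by
  let q := f₀ ≫ g₀
  let B := LimLib.bcDiagram D q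
  haveI : ∀ j : Over i₀, IsAffineHom (pullback.snd (D.map j.hom) q) := fun j =>
    MorphismProperty.pullback_snd _ _ inferInstance
  haveI : ∀ j : Over i₀, CompactSpace (B.obj j) := fun j => by
    haveI : QuasiCompact (pullback.snd (D.map j.hom) q) :=
      MorphismProperty.pullback_snd _ _ (inferInstance : QuasiCompact (D.map j.hom))
    exact (QuasiCompact.compactSpace_of_compactSpace (pullback.snd (D.map j.hom) q) :
      CompactSpace (pullback (D.map j.hom) q : Scheme.{u}))
  haveI : ∀ j : Over i₀, QuasiSeparatedSpace (B.obj j) := fun j => by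
    haveI : QuasiSeparated (pullback.snd (D.map j.hom) q) :=
      MorphismProperty.pullback_snd _ _ (inferInstance : QuasiSeparated (D.map j.hom))
    exact (quasiSeparatedSpace_of_quasiSeparated (pullback.snd (D.map j.hom) q) :
      QuasiSeparatedSpace (pullback (D.map j.hom) q : Scheme.{u}))
  haveI : IsAffineHom (c.π.app i₀) := isAffineHom_π_app D c hc i₀
  haveI : IsAffineHom qY := MorphismProperty.of_isPullback hY.flip ‹IsAffineHom (c.π.app i₀)›
  let t : B ⟶ (Functor.const (Over i₀)).obj Y₀ :=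
    { app := fun j => pullback.snd (D.map j.hom) q ≫ f₀
      naturality := fun j k φ => (Category.assoc _ _ _).symm.trans
        ((congrArg (· ≫ f₀) ((pullback.lift_snd _ _ _).trans (Category.comp_id _))).trans (Category.comp_id _).symm) }
  let o : Over i₀ := Over.mk (𝟙 i₀)
  let e := (hX.paste_vert hY).flip.isoPullback
  have ho : P ((LimLib.bcCone c q).π.app o ≫ t.app o) := by
    have h1 : (LimLib.bcCone c q).π.app o ≫ t.app o = pullback.snd (c.π.app i₀) q ≫ f₀ := by
      show _ ≫ pullback.snd (D.map o.hom) q ≫ f₀ = _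
      rw [← Category.assoc]
      congr 1
      exact (pullback.lift_snd _ _ _).trans (Category.comp_id _)
    have h2 : P (pullback.snd (c.π.app i₀) q ≫ f₀) := by
      rw [← P.cancel_left_of_respectsIso e.hom, ← Category.assoc, IsPullback.isoPullback_hom_snd, hX.w]
      exact (hcomp f qY inferInstance).2 hP
    exact (congrArg (fun m => P m) h1).mpr h2
  obtain ⟨i₁, hi₁⟩ := hev B t (LimLib.bcCone c q) (LimLib.isLimitBcCone q hc) o ho
  refine ⟨i₁.left, i₁.hom, _, _, _, _, _, _, IsPullback.of_hasPullback g₀ (D.map i₁.hom),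
    IsPullback.of_hasPullback f₀ _, ?_⟩
  let hbig := ((IsPullback.of_hasPullback f₀ (pullback.fst g₀ (D.map i₁.hom))).paste_vert
    (IsPullback.of_hasPullback g₀ (D.map i₁.hom))).flip
  have h2 : P (hbig.isoPullback.hom ≫ t.app i₁) := (P.cancel_left_of_respectsIso _ _).2 (hi₁ i₁ (𝟙 _))
  have h3 : hbig.isoPullback.hom ≫ t.app i₁ =
      pullback.snd f₀ (pullback.fst g₀ (D.map i₁.hom)) ≫ pullback.fst g₀ (D.map i₁.hom) := by
    show hbig.isoPullback.hom ≫ pullback.snd (D.map i₁.hom) q ≫ f₀ = _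
    rw [← Category.assoc, IsPullback.isoPullback_hom_snd, pullback.condition]
  rw [h3] at h2
  haveI : IsAffineHom (pullback.fst g₀ (D.map i₁.hom)) := MorphismProperty.pullback_fst _ _ inferInstance
  exact (hcomp _ _ inferInstance).1 h2

end Groth.Agent.FibConstr
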