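import Groth.Agent.FibConstr.DescentAffine
import Groth.Agent.S9186

/-!
From descent along limits of affine schemes to descent along limits with affine transition maps.
-/

set_option autoImplicit false
set_option backward.isDefEq.respectTransparency.types false

universe u

open AlgebraicGeometry CategoryTheory Limits

namespace Groth.Agent.FibConstr

/-- `P` descends along limits of affine schemes, for morphisms of affine schemes with `H`. -/
def AffineDescends (H P : MorphismProperty Scheme.{u}) : Prop :=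
  ∀ {J : Type u} [SmallCategory J] [IsCofiltered J] {D : J ⥤ Scheme.{u}} [∀ j, IsAffine (D.obj j)]
    {c : Cone D} (_ : IsLimit c) {o : J} {Z : Scheme.{u}} [IsAffine Z] {h : Z ⟶ D.obj o},
    H h → P (pullback.fst (c.π.app o) h) → ∃ j : Over o, P (pullback.fst (D.map j.hom) h)

theorem affineDescends_isFinite : AffineDescends @LocallyOfFiniteType @IsFinite :=
  fun hc _ _ _ _ hh hl => haveI := hh; exists_stage_isFinite_of_isAffine hc hl

theorem affineDescends_isClosedImmersion :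
    AffineDescends @LocallyOfFiniteType @IsClosedImmersion :=
  fun hc _ _ _ _ hh hl => haveI := hh; exists_stage_isClosedImmersion_of_isAffine hc hl

theorem affineDescends_isIso :
    AffineDescends (@IsClosedImmersion ⊓ @LocallyOfFinitePresentation)
      (MorphismProperty.isomorphisms Scheme) :=
  fun hc _ _ _ _ hh hl => haveI := hh.1; haveI := hh.2; exists_stage_isIso_of_isAffine hc hl

section
variable (P : MorphismProperty Scheme.{u}) [P.IsStableUnderBaseChange] {A B S Z : Scheme.{u}}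

theorem prop_fst_fst_iff (a : A ⟶ B) (b : B ⟶ S) (h : Z ⟶ S) :
    P (pullback.fst a (pullback.fst b h)) ↔ P (pullback.fst (a ≫ b) h) := by
  rw [← pullbackRightPullbackFstIso_hom_fst b h a, P.cancel_left_of_respectsIso]

theorem prop_fst_comp (a : A ⟶ B) (b : B ⟶ S) (h : Z ⟶ S) (hP : P (pullback.fst b h)) :
    P (pullback.fst (a ≫ b) h) :=
  (prop_fst_fst_iff P a b h).1 (MorphismProperty.pullback_fst _ _ hP)

omit [P.IsStableUnderBaseChange] in
theorem prop_fst_congr {a a' : A ⟶ S} (e : a = a') (h : Z ⟶ S) :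
    P (pullback.fst a h) ↔ P (pullback.fst a' h) := by subst e; rfl

theorem prop_fst_iff_of_isPullback {Q : Scheme.{u}} {a : A ⟶ S} {h : Z ⟶ S} {g : Q ⟶ A}
    {g' : Q ⟶ Z} (hp : IsPullback g g' a h) : P g ↔ P (pullback.fst a h) := by
  rw [← hp.isoPullback_hom_fst, P.cancel_left_of_respectsIso]

end

theorem resLE_resLE_ι {A B C E : Scheme.{u}} (f : A ⟶ B) (g : B ⟶ C) (k : C ⟶ E) {U : C.Opens}
    {V : B.Opens} {W : A.Opens} (h₁ : W ≤ f ⁻¹ᵁ V) (h₂ : V ≤ g ⁻¹ᵁ U) :
    f.resLE V W h₁ ≫ g.resLE U V h₂ ≫ U.ι ≫ k = W.ι ≫ f ≫ g ≫ k := by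
  rw [Scheme.Hom.resLE_comp_ι_assoc, Scheme.Hom.resLE_comp_ι_assoc]

variable {I : Type u} [SmallCategory I] [IsCofiltered I] {D : I ⥤ Scheme.{u}}
  [∀ {i j : I} (f : i ⟶ j), IsAffineHom (D.map f)] {c : Cone D}

/-- Descent over one affine open. -/
theorem exists_stage_restrict {H P : MorphismProperty Scheme.{u}} [H.IsStableUnderBaseChange]
    [P.IsStableUnderBaseChange] (hd : AffineDescends H P) (hc : IsLimit c) {i : I} {Z : Scheme.{u}}
    (h : Z ⟶ D.obj i) [IsAffineHom h] (hH : H h) (hl : P (pullback.fst (c.π.app i) h))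
    {W : (D.obj i).Opens} (hW : IsAffineOpen W) :
    ∃ j : Over i, ∀ k, (k ⟶ j) → P (pullback.fst (D.map k.hom) h ∣_ (D.map k.hom ⁻¹ᵁ W)) := by
  haveI : ∀ j : Over i, IsAffine ((opensDiagram D i W).obj j) := fun j => hW.preimage (D.map _)
  let o : Over i := Over.mk (𝟙 i)
  let ιo : (opensDiagram D i W).obj o ⟶ D.obj i :=
    (opensDiagramι D i W).app o ≫ D.map o.hom
  have w : (opensCone D c i W).π.app o ≫ ιo = (c.π.app i ⁻¹ᵁ W).ι ≫ c.π.app i := by
    simp [ιo, o]
    exact Scheme.Hom.resLE_comp_ι _ _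
  let h' := pullback.fst ιo h
  haveI : IsAffineHom h' := MorphismProperty.pullback_fst _ _ inferInstance
  haveI : IsAffine (pullback ιo h) := isAffine_of_isAffineHom h'
  have hl' : P (pullback.fst ((opensCone D c i W).π.app o) h') := by
    rw [prop_fst_fst_iff P]
    exact (prop_fst_congr P w h).2 (prop_fst_comp P _ _ _ hl)
  obtain ⟨m, hm⟩ := hd (isLimitOpensCone D c hc i W) (MorphismProperty.pullback_fst _ _ hH) hl'
  rw [prop_fst_fst_iff P] at hm
  refine ⟨m.left, fun k ψ => ?_⟩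
  have h1 := prop_fst_comp P ((opensDiagram D i W).map ψ) _ h hm
  have e : (opensDiagram D i W).map ψ ≫ (opensDiagram D i W).map m.hom ≫ ιo =
      (D.map k.hom ⁻¹ᵁ W).ι ≫ D.map k.hom := by
    have hk : ψ.left ≫ m.hom.left ≫ o.hom = k.hom := by
      rw [Over.w m.hom]; exact Over.w ψ
    refine (resLE_resLE_ι (D.map ψ.left) (D.map m.hom.left) (D.map o.hom) _ _).trans ?_
    exact congrArg (_ ≫ ·) (((congrArg (_ ≫ ·) (D.map_comp _ _).symm).trans (D.map_comp _ _).symm).trans
      (congrArg D.map hk))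
  rw [prop_fst_congr P e h] at h1
  exact (prop_fst_iff_of_isPullback P
    ((isPullback_morphismRestrict (pullback.fst (D.map k.hom) h) (D.map k.hom ⁻¹ᵁ W)).paste_vert
      (IsPullback.of_hasPullback (D.map k.hom) h))).2 h1

/-- Descent for affine morphisms. -/
theorem exists_stage_of_isAffineHom {H P : MorphismProperty Scheme.{u}} [H.IsStableUnderBaseChange]
    [P.IsStableUnderBaseChange] [IsZariskiLocalAtTarget P] (hd : AffineDescends H P) (hc : IsLimit c)
    {i : I} [CompactSpace (D.obj i)] {Z : Scheme.{u}} (h : Z ⟶ D.obj i) [IsAffineHom h] (hH : H h)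
    (hl : P (pullback.fst (c.π.app i) h)) :
    ∃ j : Over i, P (pullback.fst (D.map j.hom) h) := by
  obtain ⟨s, hsf, hs⟩ := ((D.obj i).isBasis_affineOpens).exists_finite_of_isCompact
    (U := (⊤ : (D.obj i).Opens)) (by simpa using isCompact_univ)
  haveI : Nonempty (Over i) := ⟨Over.mk (𝟙 i)⟩
  choose! j hj using fun W (hW : W ∈ s) => exists_stage_restrict hd hc h hH hl (hsf hW)
  classical
  obtain ⟨m, hm⟩ := IsCofiltered.inf_objs_exists (hs.1.toFinset.image j)
  refine ⟨m, IsZariskiLocalAtTarget.of_iSup_eq_top (fun W : s => D.map m.hom ⁻¹ᵁ W.1) ?_ fun W => ?_⟩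
  · rw [← Scheme.Hom.preimage_iSup, ← sSup_eq_iSup', ← hs.2]
    rfl
  · exact hj W.1 W.2 m (hm (Finset.mem_image_of_mem j (hs.1.mem_toFinset.2 W.2))).some

/-- Affineness of a base change descends to a stage. -/
theorem exists_stage_isAffineHom (hc : IsLimit c) {i : I} [CompactSpace (D.obj i)]
    [QuasiSeparatedSpace (D.obj i)] {Z : Scheme.{u}} [CompactSpace Z] [QuasiSeparatedSpace Z]
    (h : Z ⟶ D.obj i) (hl : IsAffineHom (pullback.fst (c.π.app i) h)) :
    ∃ j : Over i, IsAffineHom (pullback.fst (D.map j.hom) h) := by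
  haveI := hl
  obtain ⟨k, φ, Xk, Yk, fk, gk, pY, pX, hY, hX, hf⟩ := S9186.result D c hc i h (𝟙 (D.obj i))
    (pullback.fst (c.π.app i) h) (𝟙 c.pt) (c.π.app i) (pullback.snd (c.π.app i) h)
    (IsPullback.id_vert _) (IsPullback.of_hasPullback _ _).flip
  haveI : IsIso gk := hY.isIso_snd_of_isIso
  haveI := hf
  refine ⟨Over.mk φ, (prop_fst_iff_of_isPullback @IsAffineHom (hX.paste_vert hY).flip).1 ?_⟩
  infer_instance

/-- Descent for morphisms of qcqs schemes. -/
theorem exists_stage_of_affineDescends {H P : MorphismProperty Scheme.{u}}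
    [H.IsStableUnderBaseChange] [P.IsStableUnderBaseChange] [IsZariskiLocalAtTarget P]
    (hd : AffineDescends H P) (hc : IsLimit c) {i : I} [CompactSpace (D.obj i)]
    [QuasiSeparatedSpace (D.obj i)] {Z : Scheme.{u}} [CompactSpace Z] [QuasiSeparatedSpace Z]
    (h : Z ⟶ D.obj i) (hH : H h) (hl : P (pullback.fst (c.π.app i) h))
    (hla : IsAffineHom (pullback.fst (c.π.app i) h)) :
    ∃ j : Over i, P (pullback.fst (D.map j.hom) h) := by
  obtain ⟨j, hj⟩ := exists_stage_isAffineHom hc h hla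
  haveI := hj
  haveI : CompactSpace (D.obj j.left) := QuasiCompact.compactSpace_of_compactSpace (D.map j.hom)
  obtain ⟨k, hk⟩ := exists_stage_of_isAffineHom hd hc (pullback.fst (D.map j.hom) h)
    (MorphismProperty.pullback_fst _ _ hH)
    (by rw [prop_fst_fst_iff P]; exact (prop_fst_congr P (c.w j.hom) h).2 hl)
  rw [prop_fst_fst_iff P, prop_fst_congr P (D.map_comp k.hom j.hom).symm h] at hk
  exact ⟨Over.mk (k.hom ≫ j.hom), hk⟩

/-- A stage statement over a fixed target gives one for base changes of morphisms over a stage. -/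
theorem exists_stage_of_target (P : MorphismProperty Scheme.{u}) [P.IsStableUnderBaseChange]
    {i₀ : I} {X₀ Y₀ X Y : Scheme.{u}} {f₀ : X₀ ⟶ Y₀} {g₀ : Y₀ ⟶ D.obj i₀} {f : X ⟶ Y} {g : Y ⟶ c.pt}
    {qY : Y ⟶ Y₀} {qX : X ⟶ X₀} (hY : IsPullback qY g g₀ (c.π.app i₀)) (hX : IsPullback qX f f₀ qY)
    (hP : P f)
    (core : ∀ h : X₀ ⟶ (LimLib.bcDiagram D g₀).obj (Over.mk (𝟙 i₀)),
      h ≫ pullback.snd _ _ = f₀ →
      P (pullback.fst ((LimLib.bcCone c g₀).π.app (Over.mk (𝟙 i₀))) h) →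
      ∃ j : Over (Over.mk (𝟙 i₀)), P (pullback.fst ((LimLib.bcDiagram D g₀).map j.hom) h)) :
    ∃ (i : I) (φ : i ⟶ i₀) (Xi Yi : Scheme.{u}) (fi : Xi ⟶ Yi) (gi : Yi ⟶ D.obj i) (pY : Yi ⟶ Y₀)
      (pX : Xi ⟶ X₀), IsPullback pY gi g₀ (D.map φ) ∧ IsPullback pX fi f₀ pY ∧ P fi := by
  let o : Over i₀ := Over.mk (𝟙 i₀)
  haveI : IsIso (D.map o.hom) := by
    show IsIso (D.map (𝟙 i₀))
    rw [D.map_id]
    infer_instance
  let E : (LimLib.bcDiagram D g₀).obj o ≅ Y₀ :=
    @asIso _ _ _ _ (pullback.snd (D.map o.hom) g₀)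
      (IsPullback.of_hasPullback (D.map o.hom) g₀).isIso_snd_of_isIso
  let e' := hY.flip.isoPullback
  have hlim : IsPullback qX (f ≫ e'.hom) (f₀ ≫ E.inv) ((LimLib.bcCone c g₀).π.app o) := by
    refine hX.of_iso (Iso.refl _) (Iso.refl _) e' E.symm ?_ ?_ ?_ ?_
    · simp
    · simp
    · simp
    · simp only [Iso.symm_hom, Iso.comp_inv_eq, Category.assoc]
      refine Eq.trans ?_ (congrArg (e'.hom ≫ ·) (pullback.lift_snd _ _ _).symm)
      simp [e']
  obtain ⟨j, hj⟩ := core (f₀ ≫ E.inv) ((Category.assoc _ _ _).trans ((congrArg (f₀ ≫ ·) E.inv_hom_id).trans (Category.comp_id _))) ((prop_fst_iff_of_isPullback P hlim.flip).1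
    ((P.cancel_right_of_respectsIso _ _).2 hP))
  refine ⟨j.left.left, j.left.hom, _, _, _, pullback.fst (D.map j.left.hom) g₀,
    pullback.snd (D.map j.left.hom) g₀, pullback.snd _ _,
    (IsPullback.of_hasPullback (D.map j.left.hom) g₀).flip, ?_, hj⟩
  refine (IsPullback.of_hasPullback ((LimLib.bcDiagram D g₀).map j.hom) (f₀ ≫ E.inv)).flip.of_iso
    (Iso.refl _) (Iso.refl _) (Iso.refl _) E ?_ ?_ ?_ ?_
  · exact (Category.comp_id _).trans (Category.id_comp _).symm
  · exact (Category.comp_id _).trans (Category.id_comp _).symm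
  · simp
  · exact (pullback.lift_snd _ _ _).trans ((Category.comp_id _).trans (Category.id_comp _).symm)

end Groth.Agent.FibConstr
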