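import Groth.Agent.LimLib.BaseChange
import Mathlib.AlgebraicGeometry.AffineTransitionLimit
import Mathlib.AlgebraicGeometry.Morphisms.Finite
import Mathlib.Algebra.Category.Ring.Constructions

/-!
Finiteness, closed immersions and isomorphisms descend along limits of affine schemes.
-/

set_option autoImplicit false
set_option backward.isDefEq.respectTransparency.types false

universe u

open AlgebraicGeometry CategoryTheory Limits

namespace Groth.Agent.FibConstr

variable {I : Type u} [SmallCategory I] [IsCofiltered I] {D : I ⥤ Scheme.{u}}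
  [∀ i, IsAffine (D.obj i)] {c : Cone D} {o : I} {Z : Scheme.{u}} [IsAffine Z] {h : Z ⟶ D.obj o}

omit [IsCofiltered I] [∀ i, IsAffine (D.obj i)] [IsAffine Z] in
theorem bcMap_fst_apply {j k : Over o} (φ : k ⟶ j) (a : Γ(D.obj j.left, ⊤)) :
    ((LimLib.bcDiagram D h).map φ).appTop ((pullback.fst (D.map j.hom) h).appTop a) =
      (pullback.fst (D.map k.hom) h).appTop ((D.map φ.left).appTop a) := by
  show ((pullback.fst (D.map j.hom) h).appTop ≫ ((LimLib.bcDiagram D h).map φ).appTop) a =
    ((D.map φ.left).appTop ≫ (pullback.fst (D.map k.hom) h).appTop) a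
  erw [← Scheme.Hom.comp_appTop, ← Scheme.Hom.comp_appTop, pullback.lift_fst]
  rfl

omit [IsCofiltered I] [∀ i, IsAffine (D.obj i)] [IsAffine Z] in
theorem bcMap_snd_apply {j k : Over o} (φ : k ⟶ j) (x : Γ(Z, ⊤)) :
    ((LimLib.bcDiagram D h).map φ).appTop ((pullback.snd (D.map j.hom) h).appTop x) =
      (pullback.snd (D.map k.hom) h).appTop x := by
  show ((pullback.snd (D.map j.hom) h).appTop ≫ ((LimLib.bcDiagram D h).map φ).appTop) x = _
  erw [← Scheme.Hom.comp_appTop, pullback.lift_snd, Category.comp_id]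
  rfl

omit [IsCofiltered I] [∀ i, IsAffine (D.obj i)] [IsAffine Z] in
theorem bcPi_fst_apply (j : Over o) (a : Γ(D.obj j.left, ⊤)) :
    ((LimLib.bcCone c h).π.app j).appTop ((pullback.fst (D.map j.hom) h).appTop a) =
      (pullback.fst (c.π.app o) h).appTop ((c.π.app j.left).appTop a) := by
  show ((pullback.fst (D.map j.hom) h).appTop ≫ ((LimLib.bcCone c h).π.app j).appTop) a =
    ((c.π.app j.left).appTop ≫ (pullback.fst (c.π.app o) h).appTop) a
  erw [← Scheme.Hom.comp_appTop, ← Scheme.Hom.comp_appTop, pullback.lift_fst]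
  rfl

omit [IsCofiltered I] [∀ i, IsAffine (D.obj i)] [IsAffine Z] in
theorem bcPi_snd_apply (j : Over o) (x : Γ(Z, ⊤)) :
    ((LimLib.bcCone c h).π.app j).appTop ((pullback.snd (D.map j.hom) h).appTop x) =
      (pullback.snd (c.π.app o) h).appTop x := by
  show ((pullback.snd (D.map j.hom) h).appTop ≫ ((LimLib.bcCone c h).π.app j).appTop) x = _
  erw [← Scheme.Hom.comp_appTop, pullback.lift_snd, Category.comp_id]
  rfl

variable (hc : IsLimit c)
include hc

omit [IsAffine Z] in
/-- Finitely many functions on the limit come from one stage. -/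
theorem exists_stage_subset_range (s : Finset Γ(c.pt, ⊤)) :
    ∃ l : Over o, ∀ a ∈ s, a ∈ Set.range (c.π.app l.left).appTop := by
  classical
  induction s using Finset.induction with
  | empty => exact ⟨Over.mk (𝟙 o), by simp⟩
  | @insert a s _ ih =>
    obtain ⟨l, hl⟩ := ih
    obtain ⟨i, t, rfl⟩ := exists_appTop_π_eq_of_isAffine_of_isLimit D c hc a
    refine ⟨Over.mk (IsCofiltered.minToLeft l.left i ≫ l.hom), fun b hb => ?_⟩
    obtain rfl | hb := Finset.mem_insert.1 hb
    · exact ⟨(D.map (IsCofiltered.minToRight l.left i)).appTop t, by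
        rw [← c.w (IsCofiltered.minToRight l.left i), Scheme.Hom.comp_appTop]; rfl⟩
    · obtain ⟨t', rfl⟩ := hl b hb
      exact ⟨(D.map (IsCofiltered.minToLeft l.left i)).appTop t', by
        rw [← c.w (IsCofiltered.minToLeft l.left i), Scheme.Hom.comp_appTop]; rfl⟩

/-- An element integral on the limit is integral from some stage on. -/
theorem exists_stage_isIntegralElem (x : Γ(Z, ⊤))
    (hx : (pullback.fst (c.π.app o) h).appTop.hom.IsIntegralElem
      ((pullback.snd (c.π.app o) h).appTop x)) :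
    ∃ j : Over o, ∀ k, (k ⟶ j) → (pullback.fst (D.map k.hom) h).appTop.hom.IsIntegralElem
      ((pullback.snd (D.map k.hom) h).appTop x) := by
  classical
  obtain ⟨p, hp, hp0⟩ := hx
  obtain ⟨l, hl⟩ := exists_stage_subset_range (o := o) hc p.coeffs
  have hlift : p ∈ Polynomial.lifts (c.π.app l.left).appTop.hom := by
    rw [Polynomial.lifts_iff_coeff_lifts]
    intro n
    by_cases hn : p.coeff n = 0
    · exact ⟨0, by rw [map_zero, hn]⟩
    · exact hl _ (Polynomial.coeff_mem_coeffs hn)
  obtain ⟨q, hq, -, hqm⟩ := Polynomial.lifts_and_natDegree_eq_and_monic hlift hp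
  let z := q.eval₂ (pullback.fst (D.map l.hom) h).appTop.hom ((pullback.snd (D.map l.hom) h).appTop x)
  have hz : ((LimLib.bcCone c h).π.app l).appTop z = 0 := by
    show ((LimLib.bcCone c h).π.app l).appTop.hom z = 0
    refine Eq.trans (Polynomial.hom_eval₂ q _ ((LimLib.bcCone c h).π.app l).appTop.hom _) ?_
    rw [← hq, Polynomial.eval₂_map] at hp0
    refine Eq.trans ?_ hp0
    congr 1
    · exact RingHom.ext fun a => bcPi_fst_apply l a
    · exact bcPi_snd_apply l x
  haveI : ∀ i : Over o, IsAffine ((LimLib.bcDiagram D h).obj i) := fun i =>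
    (inferInstance : IsAffine (pullback (D.map i.hom) h))
  obtain ⟨j, φ, hj⟩ := exists_appTop_map_eq_zero_of_isAffine_of_isLimit (LimLib.bcDiagram D h)
    (LimLib.bcCone c h) (LimLib.isLimitBcCone h hc) l z hz
  refine ⟨j, fun k ψ => ⟨q.map (D.map (ψ ≫ φ).left).appTop.hom, hqm.map _, ?_⟩⟩
  rw [Polynomial.eval₂_map]
  have h0 : ((LimLib.bcDiagram D h).map ψ).appTop (((LimLib.bcDiagram D h).map φ).appTop z) = 0 := by
    rw [hj, map_zero]
  have h1 : ((LimLib.bcDiagram D h).map (ψ ≫ φ)).appTop z = 0 := by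
    rw [Functor.map_comp, Scheme.Hom.comp_appTop]; exact h0
  refine Eq.trans ?_ h1
  refine Eq.trans ?_ (Polynomial.hom_eval₂ q _ ((LimLib.bcDiagram D h).map (ψ ≫ φ)).appTop.hom _).symm
  congr 1
  · exact RingHom.ext fun a => (bcMap_fst_apply (ψ ≫ φ) a).symm
  · exact (bcMap_snd_apply (ψ ≫ φ) x).symm

/-- An element of the base on the limit comes from the base from some stage on. -/
theorem exists_stage_mem_range (x : Γ(Z, ⊤))
    (hx : (pullback.snd (c.π.app o) h).appTop x ∈ (pullback.fst (c.π.app o) h).appTop.hom.range) :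
    ∃ j : Over o, ∀ k, (k ⟶ j) → (pullback.snd (D.map k.hom) h).appTop x ∈
      (pullback.fst (D.map k.hom) h).appTop.hom.range := by
  classical
  obtain ⟨r, hr⟩ := hx
  obtain ⟨l, hl⟩ := exists_stage_subset_range (o := o) hc {r}
  obtain ⟨r', rfl⟩ := hl r (Finset.mem_singleton_self _)
  let z := (pullback.fst (D.map l.hom) h).appTop r' - (pullback.snd (D.map l.hom) h).appTop x
  have hz : ((LimLib.bcCone c h).π.app l).appTop z = 0 := by
    erw [map_sub, bcPi_fst_apply, bcPi_snd_apply, sub_eq_zero]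
    exact hr
  haveI : ∀ i : Over o, IsAffine ((LimLib.bcDiagram D h).obj i) := fun i =>
    (inferInstance : IsAffine (pullback (D.map i.hom) h))
  obtain ⟨j, φ, hj⟩ := exists_appTop_map_eq_zero_of_isAffine_of_isLimit (LimLib.bcDiagram D h)
    (LimLib.bcCone c h) (LimLib.isLimitBcCone h hc) l z hz
  refine ⟨j, fun k ψ => ⟨(D.map (ψ ≫ φ).left).appTop r', ?_⟩⟩
  have h1 : ((LimLib.bcDiagram D h).map (ψ ≫ φ)).appTop z = 0 := by
    rw [Functor.map_comp, Scheme.Hom.comp_appTop]
    exact (congrArg ((LimLib.bcDiagram D h).map ψ).appTop hj).trans (map_zero _)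
  erw [map_sub, bcMap_fst_apply, bcMap_snd_apply, sub_eq_zero] at h1
  exact h1

omit hc [IsCofiltered I] in
/-- A subring of the sections of a stage containing the base and the generators is everything. -/
theorem subring_eq_top_of_gen (k : Over o) (R : Subring Γ(pullback (D.map k.hom) h, ⊤))
    (hb : ∀ a, (pullback.fst (D.map k.hom) h).appTop a ∈ R) {s : Set Γ(Z, ⊤)}
    (hs : letI := h.appTop.hom.toAlgebra; Algebra.adjoin Γ(D.obj o, ⊤) s = ⊤)
    (hx : ∀ x ∈ s, (pullback.snd (D.map k.hom) h).appTop x ∈ R) : R = ⊤ := by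
  letI := h.appTop.hom.toAlgebra
  have key := CommRingCat.closure_range_union_range_eq_top_of_isPushout
    (isPushout_appTop_of_isPullback (IsPullback.of_hasPullback (D.map k.hom) h))
  rw [eq_top_iff, ← key, Subring.closure_le]
  have hy : ∀ y : Γ(Z, ⊤), (pullback.snd (D.map k.hom) h).appTop y ∈ R := fun y => by
    have hy : y ∈ Algebra.adjoin Γ(D.obj o, ⊤) s := hs ▸ Algebra.mem_top
    induction hy using Algebra.adjoin_induction with
    | mem x hx' => exact hx x hx'
    | algebraMap a =>
      have e : (pullback.snd (D.map k.hom) h).appTop (h.appTop a) =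
          (pullback.fst (D.map k.hom) h).appTop ((D.map k.hom).appTop a) := by
        show (h.appTop ≫ (pullback.snd (D.map k.hom) h).appTop) a =
          ((D.map k.hom).appTop ≫ (pullback.fst (D.map k.hom) h).appTop) a
        rw [← Scheme.Hom.comp_appTop, ← Scheme.Hom.comp_appTop, pullback.condition]
      rw [RingHom.algebraMap_toAlgebra]
      exact e ▸ hb _
    | add a b _ _ ha hb' => rw [map_add]; exact add_mem ha hb'
    | mul a b _ _ ha hb' => rw [map_mul]; exact mul_mem ha hb'
  rintro x (⟨a, rfl⟩ | ⟨a, rfl⟩)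
  · first | exact hb a | exact hy a
  · first | exact hy a | exact hb a

omit hc in
theorem exists_stage_forall_gen [LocallyOfFiniteType h] {Q : Over o → Γ(Z, ⊤) → Prop}
    (hQ : ∀ x, ∃ j : Over o, ∀ k, (k ⟶ j) → Q k x) :
    ∃ s : Set Γ(Z, ⊤), (letI := h.appTop.hom.toAlgebra; Algebra.adjoin Γ(D.obj o, ⊤) s = ⊤) ∧
      ∃ j : Over o, ∀ x ∈ s, ∀ k, (k ⟶ j) → Q k x := by
  letI := h.appTop.hom.toAlgebra
  have hft : Algebra.FiniteType Γ(D.obj o, ⊤) Γ(Z, ⊤) :=
    HasRingHomProperty.appTop (P := @LocallyOfFiniteType) h inferInstance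
  obtain ⟨s, hs⟩ := hft.out
  classical
  choose j hj using hQ
  obtain ⟨m, hm⟩ := IsCofiltered.inf_objs_exists (s.image j)
  exact ⟨s, hs, m, fun x hx k φ => hj x k (φ ≫ (hm (Finset.mem_image_of_mem j hx)).some)⟩

/-- Finiteness descends along limits of affine schemes. -/
theorem exists_stage_isFinite_of_isAffine [LocallyOfFiniteType h]
    (hl : IsFinite (pullback.fst (c.π.app o) h)) :
    ∃ j : Over o, IsFinite (pullback.fst (D.map j.hom) h) := by
  haveI : IsAffine (((Functor.const I).obj c.pt).obj o) := Scheme.isAffine_of_isLimit _ hc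
  haveI := hl
  have hint : (pullback.fst (c.π.app o) h).appTop.hom.IsIntegral :=
    ((HasAffineProperty.iff_of_isAffine (P := @IsIntegralHom)).1
      (inferInstance : IsIntegralHom (pullback.fst (c.π.app o) h))).2
  obtain ⟨s, hs, j, hj⟩ := exists_stage_forall_gen (h := h)
    (fun x => exists_stage_isIntegralElem hc x (hint _))
  refine ⟨j, ?_⟩
  have hint' : (pullback.fst (D.map j.hom) h).appTop.hom.IsIntegral := fun z => by
    letI := (pullback.fst (D.map j.hom) h).appTop.hom.toAlgebra
    have := subring_eq_top_of_gen (h := h) j (integralClosure Γ(D.obj j.left, ⊤) Γ(pullback (D.map j.hom) h, ⊤)).toSubring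
      (fun a => (integralClosure _ _).algebraMap_mem a) hs (fun x hx => hj x hx j (𝟙 j))
    have hz : z ∈ (integralClosure Γ(D.obj j.left, ⊤) Γ(pullback (D.map j.hom) h, ⊤)).toSubring := by
      rw [this]; trivial
    exact hz
  rw [IsFinite.iff_isIntegralHom_and_locallyOfFiniteType]
  exact ⟨(HasAffineProperty.iff_of_isAffine (P := @IsIntegralHom)).2 ⟨inferInstance, hint'⟩,
    MorphismProperty.pullback_fst _ _ inferInstance⟩

/-- Being a closed immersion descends along limits of affine schemes. -/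
theorem exists_stage_isClosedImmersion_of_isAffine [LocallyOfFiniteType h]
    (hl : IsClosedImmersion (pullback.fst (c.π.app o) h)) :
    ∃ j : Over o, IsClosedImmersion (pullback.fst (D.map j.hom) h) := by
  haveI : IsAffine (((Functor.const I).obj c.pt).obj o) := Scheme.isAffine_of_isLimit _ hc
  haveI := hl
  have hsurj := (IsClosedImmersion.isAffine_surjective_of_isAffine (pullback.fst (c.π.app o) h)).2
  obtain ⟨s, hs, j, hj⟩ := exists_stage_forall_gen (h := h)
    (fun x => exists_stage_mem_range hc x (hsurj _))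
  refine ⟨j, IsClosedImmersion.of_surjective_of_isAffine _ ?_⟩
  exact RingHom.range_eq_top.1 (subring_eq_top_of_gen (h := h) j _ (fun a => ⟨a, rfl⟩) hs
    (fun x hx => hj x hx j (𝟙 j)))

/-- A closed immersion of finite presentation that is an isomorphism on the limit is one at a
stage. -/
theorem exists_stage_isIso_of_isAffine [IsClosedImmersion h] [LocallyOfFinitePresentation h]
    (hl : IsIso (pullback.fst (c.π.app o) h)) :
    ∃ j : Over o, IsIso (pullback.fst (D.map j.hom) h) := by
  classical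
  haveI := hl
  letI := h.appTop.hom.toAlgebra
  haveI : Algebra.FinitePresentation Γ(D.obj o, ⊤) Γ(Z, ⊤) :=
    HasRingHomProperty.appTop (P := @LocallyOfFinitePresentation) h inferInstance
  obtain ⟨s, hs⟩ : (RingHom.ker (Algebra.ofId Γ(D.obj o, ⊤) Γ(Z, ⊤)).toRingHom).FG :=
    Algebra.FinitePresentation.ker_fG_of_surjective _
      (IsClosedImmersion.isAffine_surjective_of_isAffine h).2
  have hker : ∀ g ∈ s, ∃ j : Over o, ∀ k, (k ⟶ j) → (D.map k.hom).appTop g = 0 := fun g hg => by
    have hg0 : h.appTop g = 0 :=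
      (show g ∈ RingHom.ker (Algebra.ofId Γ(D.obj o, ⊤) Γ(Z, ⊤)).toRingHom from hs ▸ Ideal.subset_span hg)
    have h0 : (c.π.app o).appTop g = 0 := by
      haveI : IsIso (pullback.fst (c.π.app o) h).appTop :=
        ⟨(inv (pullback.fst (c.π.app o) h)).appTop,
          by rw [← Scheme.Hom.comp_appTop, IsIso.inv_hom_id, Scheme.Hom.id_appTop],
          by rw [← Scheme.Hom.comp_appTop, IsIso.hom_inv_id, Scheme.Hom.id_appTop]⟩
      refine (ConcreteCategory.bijective_of_isIso (pullback.fst (c.π.app o) h).appTop).1 ?_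
      rw [map_zero]
      show ((c.π.app o).appTop ≫ (pullback.fst (c.π.app o) h).appTop) g = 0
      rw [← Scheme.Hom.comp_appTop, pullback.condition, Scheme.Hom.comp_appTop]
      exact (congrArg (pullback.snd (c.π.app o) h).appTop hg0).trans (map_zero _)
    obtain ⟨j, f, hj⟩ := exists_appTop_map_eq_zero_of_isAffine_of_isLimit D c hc o g h0
    refine ⟨Over.mk f, fun k φ => ?_⟩
    rw [← Over.w φ, Functor.map_comp, Scheme.Hom.comp_appTop]
    exact (congrArg (D.map φ.left).appTop hj).trans (map_zero _)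
  haveI : Nonempty (Over o) := ⟨Over.mk (𝟙 o)⟩
  choose! j hj using hker
  obtain ⟨m, hm⟩ := IsCofiltered.inf_objs_exists (s.image j)
  have hle : h.ker ≤ (D.map m.hom).ker := by
    refine Scheme.IdealSheafData.le_of_isAffine ?_
    rw [h.ker_apply ⟨⊤, isAffineOpen_top _⟩, (D.map m.hom).ker_apply ⟨⊤, isAffineOpen_top _⟩]
    refine (show RingHom.ker h.appTop.hom = Ideal.span (s : Set Γ(D.obj o, ⊤)) from hs.symm).le.trans
      (Ideal.span_le.2 fun g hg => ?_)
    exact hj g hg m (hm (Finset.mem_image_of_mem j hg)).some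
  refine ⟨m, ?_⟩
  haveI : IsClosedImmersion (pullback.fst (D.map m.hom) h) :=
    MorphismProperty.pullback_fst _ _ inferInstance
  let σ := pullback.lift (f := D.map m.hom) (g := h) (𝟙 _)
    (IsClosedImmersion.lift h (D.map m.hom) hle)
    ((Category.id_comp _).trans (IsClosedImmersion.lift_fac _ _ _).symm)
  refine ⟨σ, ?_, pullback.lift_fst _ _ _⟩
  rw [← cancel_mono (pullback.fst (D.map m.hom) h), Category.assoc, pullback.lift_fst,
    Category.comp_id, Category.id_comp]

end Groth.Agent.FibConstr
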