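import Groth.Agent.FibConstr.DescentQc
import Groth.Agent.S9190
import Groth.Prelude.Def_Mor2
import Mathlib.AlgebraicGeometry.Morphisms.FlatRank

/-!
Descent of separatedness, of finite locally free morphisms of given degree, of local properties near
a point, and of inclusions of subschemes.
-/

set_option autoImplicit false
set_option backward.isDefEq.respectTransparency.types false

universe u

open AlgebraicGeometry CategoryTheory Limits

namespace Groth.Agent.FibConstr

variable {I : Type u} [SmallCategory I] [IsCofiltered I] {D : I ⥤ Scheme.{u}}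
  [∀ {i j : I} (f : i ⟶ j), IsAffineHom (D.map f)] {c : Cone D}

theorem exists_stage_isSeparated (hc : IsLimit c) {i : I} [CompactSpace (D.obj i)]
    [QuasiSeparatedSpace (D.obj i)] {Z : Scheme.{u}} [CompactSpace Z] [QuasiSeparatedSpace Z]
    (h : Z ⟶ D.obj i) (hl : IsSeparated (pullback.fst (c.π.app i) h)) :
    ∃ j : Over i, IsSeparated (pullback.fst (D.map j.hom) h) := by
  haveI := hl
  obtain ⟨k, φ, Xk, Yk, fk, gk, pY, pX, hY, hX, hf⟩ := S9190.result D c hc i h (𝟙 (D.obj i))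
    (pullback.fst (c.π.app i) h) (𝟙 c.pt) (c.π.app i) (pullback.snd (c.π.app i) h)
    (IsPullback.id_vert _) (IsPullback.of_hasPullback _ _).flip
  haveI : IsIso gk := hY.isIso_snd_of_isIso
  haveI := hf
  refine ⟨Over.mk φ, (prop_fst_iff_of_isPullback @IsSeparated (hX.paste_vert hY).flip).1 ?_⟩
  infer_instance

/-- The morphisms which are finite locally free of degree `d`. -/
def finLocFreeOfDeg (d : ℕ) : MorphismProperty Scheme.{u} := fun _ _ f => Mor2.IsFinLocFreeOfDeg d f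

theorem finLocFreeOfDeg_of_isPullback (d : ℕ) {P A B S : Scheme.{u}} {g' : P ⟶ A} {f' : P ⟶ B}
    {f : A ⟶ S} {g : B ⟶ S} (h : IsPullback g' f' f g) (hf : Mor2.IsFinLocFreeOfDeg d f) :
    Mor2.IsFinLocFreeOfDeg d f' := by
  obtain ⟨⟨hfin, hflat, hfp⟩, hd⟩ := hf
  haveI := hfin; haveI := hflat
  refine ⟨⟨MorphismProperty.of_isPullback h hfin, MorphismProperty.of_isPullback h hflat,
    MorphismProperty.of_isPullback h hfp⟩, fun y => ?_⟩
  rw [Scheme.Hom.finrank_of_isPullback g' f' f g h]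
  exact hd _

instance (d : ℕ) : (finLocFreeOfDeg.{u} d).IsStableUnderBaseChange where
  of_isPullback h hf := finLocFreeOfDeg_of_isPullback d h hf

theorem exists_stage_finLocFreeOfDeg (hc : IsLimit c) (d : ℕ) {i : I} [CompactSpace (D.obj i)]
    [QuasiSeparatedSpace (D.obj i)] {Z : Scheme.{u}} [CompactSpace Z] [QuasiSeparatedSpace Z]
    (h : Z ⟶ D.obj i) (hH : LocallyOfFinitePresentation h)
    (hl : Mor2.IsFinLocFreeOfDeg d (pullback.fst (c.π.app i) h)) :
    ∃ j : Over i, Mor2.IsFinLocFreeOfDeg d (pullback.fst (D.map j.hom) h) := by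
  obtain ⟨⟨hlfin, hlflat, -⟩, hld⟩ := hl
  haveI := hH
  obtain ⟨j₁, hj₁⟩ := exists_stage_isFinite hc h inferInstance hlfin
  obtain ⟨j₂, hj₂⟩ := exists_stage_of_local @Flat (fun f _ => inferInstance) affineDescends_flat hc h hH hlflat
  let j₀ := IsCofiltered.min j₁ j₂
  let φ := IsCofiltered.minToLeft j₁ j₂
  let ψ := IsCofiltered.minToRight j₁ j₂
  haveI hfin : IsFinite (pullback.fst (D.map j₀.hom) h) := by
    have := prop_fst_comp @IsFinite (D.map φ.left) _ h hj₁
    rwa [← D.map_comp, Over.w φ] at this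
  haveI hflat : Flat (pullback.fst (D.map j₀.hom) h) := by
    have := prop_fst_comp @Flat (D.map ψ.left) _ h hj₂
    rwa [← D.map_comp, Over.w ψ] at this
  haveI : LocallyOfFinitePresentation (pullback.fst (D.map j₀.hom) h) :=
    MorphismProperty.pullback_fst _ _ hH
  haveI : CompactSpace (D.obj j₀.left) := QuasiCompact.compactSpace_of_compactSpace (D.map j₀.hom)
  let f₁ := pullback.fst (D.map j₀.hom) h
  let U : (D.obj j₀.left).Opens :=
    ⟨f₁.finrank ⁻¹' {d}, f₁.isLocallyConstant_finrank _⟩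
  have hpb : ∀ {T : Scheme.{u}} (a : T ⟶ D.obj j₀.left) (y : T),
      (pullback.fst (a ≫ D.map j₀.hom) h).finrank y = f₁.finrank (a y) := fun a y => by
    rw [show pullback.fst (a ≫ D.map j₀.hom) h =
        (pullbackRightPullbackFstIso (D.map j₀.hom) h a).inv ≫ pullback.fst a _ by
      rw [Iso.eq_inv_comp]; exact pullbackRightPullbackFstIso_hom_fst _ _ _]
    rw [Scheme.Hom.finrank_comp_left_of_isIso, Scheme.Hom.finrank_pullback_fst]
  haveI : ∀ k : Over j₀.left, CompactSpace ((Over.forget j₀.left ⋙ D).obj k) := fun k =>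
    QuasiCompact.compactSpace_of_compactSpace (D.map k.hom)
  haveI : ∀ {a b : Over j₀.left} (f : a ⟶ b), IsAffineHom ((Over.forget j₀.left ⋙ D).map f) :=
    fun f => (inferInstance : IsAffineHom (D.map f.left))
  obtain ⟨k, ξ, hk⟩ := exists_map_eq_top (Over.forget j₀.left ⋙ D) (c.whisker (Over.forget j₀.left))
    ((Functor.Initial.isLimitWhiskerEquiv (Over.forget j₀.left) c).symm hc) (i := Over.mk (𝟙 j₀.left)) U (by
      refine eq_top_iff.2 fun y _ => ?_
      show f₁.finrank (c.π.app j₀.left y) = d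
      rw [← hpb, ← hld y]
      exact congrFun (congrArg (fun t => Scheme.Hom.finrank (pullback.fst t h)) (c.w j₀.hom)) y)
  refine ⟨Over.mk (k.hom ≫ j₀.hom), ⟨⟨?_, ?_, MorphismProperty.pullback_fst _ _ hH⟩, fun y => ?_⟩⟩
  · have := prop_fst_comp @IsFinite (D.map k.hom) _ h hfin
    rwa [← D.map_comp] at this
  · have := prop_fst_comp @Flat (D.map k.hom) _ h hflat
    rwa [← D.map_comp] at this
  · show (pullback.fst (D.map (k.hom ≫ j₀.hom)) h).finrank y = d
    have e := hpb (D.map k.hom) y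
    rw [← D.map_comp] at e
    refine e.trans ?_
    have : y ∈ (Over.forget j₀.left ⋙ D).map ξ ⁻¹ᵁ U := by rw [hk]; trivial
    have hw : ξ.left = k.hom := by
      have := Over.w ξ
      simpa using this
    rw [← hw]
    exact this

/-- Inclusion of the first subscheme in the second is the invertibility of a base change. -/
theorem exists_factor_iff_isIso {S T Z₁ Z₂ : Scheme.{u}} (ι₁ : Z₁ ⟶ S) (ι₂ : Z₂ ⟶ S) [Mono ι₂]
    (a : T ⟶ S) :
    (∃ k : pullback ι₁ a ⟶ pullback ι₂ a, k ≫ pullback.snd ι₂ a = pullback.snd ι₁ a) ↔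
      IsIso (pullback.fst (pullback.fst ι₁ a) (pullback.fst ι₁ ι₂)) := by
  haveI : Mono (pullback.fst ι₁ ι₂) := inferInstance
  constructor
  · rintro ⟨k, hk⟩
    have hw : pullback.fst ι₁ a ≫ ι₁ = (k ≫ pullback.fst ι₂ a) ≫ ι₂ := by
      rw [Category.assoc, pullback.condition, pullback.condition (f := ι₂), ← Category.assoc k, hk]
    let σ := pullback.lift (f := pullback.fst ι₁ a) (g := pullback.fst ι₁ ι₂) (𝟙 _)
      (pullback.lift (pullback.fst ι₁ a) (k ≫ pullback.fst ι₂ a) hw)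
      ((Category.id_comp _).trans (pullback.lift_fst _ _ _).symm)
    refine ⟨σ, ?_, pullback.lift_fst _ _ _⟩
    rw [← cancel_mono (pullback.fst (pullback.fst ι₁ a) (pullback.fst ι₁ ι₂)), Category.assoc,
      pullback.lift_fst, Category.comp_id, Category.id_comp]
  · intro hi
    let p := pullback.fst (pullback.fst ι₁ a) (pullback.fst ι₁ ι₂)
    refine ⟨pullback.lift (inv p ≫ pullback.snd _ _ ≫ pullback.snd ι₁ ι₂) (pullback.snd ι₁ a) ?_,
      pullback.lift_snd _ _ _⟩
    simp only [Category.assoc]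
    rw [← pullback.condition (f := ι₁) (g := ι₂), ← pullback.condition_assoc]
    simp [p, pullback.condition]

/-- Local properties near a point descend to a stage. -/
theorem exists_nhd_stage (P : MorphismProperty Scheme.{u}) [P.IsStableUnderBaseChange]
    [P.IsStableUnderComposition] [IsZariskiLocalAtSource P] [IsZariskiLocalAtTarget P]
    (hoi : ∀ {A B : Scheme.{u}} (f : A ⟶ B) [IsOpenImmersion f], P f)
    (hd : AffineDescends @LocallyOfFinitePresentation P) (hc : IsLimit c) {i₀ : I}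
    {X₀ Y₀ X Y : Scheme.{u}} {f₀ : X₀ ⟶ Y₀} {g₀ : Y₀ ⟶ D.obj i₀} [LocallyOfFinitePresentation f₀]
    {f : X ⟶ Y} {g : Y ⟶ c.pt} {qY : Y ⟶ Y₀} {qX : X ⟶ X₀} (hY : IsPullback qY g g₀ (c.π.app i₀))
    (hX : IsPullback qX f f₀ qY) (x : X) :
    (∃ U : X.Opens, x ∈ U ∧ P (U.ι ≫ f)) ↔
      ∃ (j : I) (φ : j ⟶ i₀) (Xj Yj : Scheme.{u}) (fj : Xj ⟶ Yj) (gj : Yj ⟶ D.obj j) (pY : Yj ⟶ Y₀)
        (pX : Xj ⟶ X₀) (rX : X ⟶ Xj), IsPullback pY gj g₀ (D.map φ) ∧ IsPullback pX fj f₀ pY ∧
          rX ≫ pX = qX ∧ rX ≫ fj ≫ gj = f ≫ g ≫ c.π.app j ∧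
            ∃ V : Xj.Opens, rX x ∈ V ∧ P (V.ι ≫ fj) := by
  have comparison : ∀ {j : I} {φ : j ⟶ i₀} {Xj Yj : Scheme.{u}} {fj : Xj ⟶ Yj} {gj : Yj ⟶ D.obj j}
      {pY : Yj ⟶ Y₀} {pX : Xj ⟶ X₀} {rX : X ⟶ Xj}, IsPullback pY gj g₀ (D.map φ) →
      IsPullback pX fj f₀ pY → rX ≫ pX = qX → rX ≫ fj ≫ gj = f ≫ g ≫ c.π.app j →
      ∃ vY : Y ⟶ Yj, vY ≫ pY = qY ∧ vY ≫ gj = g ≫ c.π.app j ∧ IsPullback rX f fj vY := by
    intro j φ Xj Yj fj gj pY pX rX hYj hXj hr1 hr2
    let vY := hYj.lift qY (g ≫ c.π.app j) (by rw [Category.assoc, c.w]; exact hY.w)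
    refine ⟨vY, hYj.lift_fst _ _ _, hYj.lift_snd _ _ _, IsPullback.of_right ?_ (hYj.hom_ext ?_ ?_) hXj⟩
    · rw [hr1, hYj.lift_fst]; exact hX
    · rw [Category.assoc, ← hXj.w, ← Category.assoc, hr1, Category.assoc, hYj.lift_fst]
      exact hX.w
    · rw [Category.assoc, hr2, Category.assoc, hYj.lift_snd]
  constructor
  · rintro ⟨U, hxU, hU⟩
    let q := f₀ ≫ g₀
    let B := LimLib.bcDiagram D q
    let bc := LimLib.bcCone c q
    let e : X ≅ bc.pt := (hX.paste_vert hY).flip.isoPullback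
    have hxU' : e.hom x ∈ e.inv ⁻¹ᵁ U := by
      show e.inv (e.hom x) ∈ U
      rwa [← Scheme.Hom.comp_apply, e.hom_inv_id]
    obtain ⟨_, ⟨_, ⟨j, V, hV, rfl⟩, rfl⟩, hxV, hVU⟩ :=
      (isBasis_preimage_isAffineOpen B bc (LimLib.isLimitBcCone q hc)).exists_subset_of_mem_open
        hxU' (e.inv ⁻¹ᵁ U).2
    let Yj := pullback (D.map j.hom) g₀
    let pY : Yj ⟶ Y₀ := pullback.snd (D.map j.hom) g₀
    let gj : Yj ⟶ D.obj j.left := pullback.fst (D.map j.hom) g₀
    let fj : pullback (D.map j.hom) q ⟶ Yj :=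
      pullback.lift (pullback.fst (D.map j.hom) q) (pullback.snd (D.map j.hom) q ≫ f₀)
        (by rw [Category.assoc]; exact pullback.condition)
    have hYj : IsPullback pY gj g₀ (D.map j.hom) := (IsPullback.of_hasPullback _ _).flip
    have hXj : IsPullback (pullback.snd (D.map j.hom) q) fj f₀ pY :=
      IsPullback.of_bot (by
        simp only [fj, gj, pullback.lift_fst]
        exact (IsPullback.of_hasPullback (D.map j.hom) q).flip)
        (pullback.lift_snd _ _ _).symm hYj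
    let rX : X ⟶ pullback (D.map j.hom) q := e.hom ≫ bc.π.app j
    have hr1 : rX ≫ pullback.snd (D.map j.hom) q = qX := by
      show (e.hom ≫ bc.π.app j) ≫ pullback.snd (D.map j.hom) q = qX
      rw [Category.assoc]
      erw [pullback.lift_snd, Category.comp_id]
      exact IsPullback.isoPullback_hom_snd _
    have hr2 : rX ≫ fj ≫ gj = f ≫ g ≫ c.π.app j.left := by
      have he : e.hom ≫ pullback.fst (c.π.app i₀) q = f ≫ g := IsPullback.isoPullback_hom_fst _
      have hb : bc.π.app j ≫ pullback.fst (D.map j.hom) q = pullback.fst (c.π.app i₀) q ≫ c.π.app j.left :=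
        pullback.lift_fst _ _ _
      have hf : fj ≫ gj = pullback.fst (D.map j.hom) q := pullback.lift_fst _ _ _
      refine (congrArg (rX ≫ ·) hf).trans ?_
      refine (Category.assoc _ _ _).trans ((congrArg (e.hom ≫ ·) hb).trans ?_)
      exact (Category.assoc _ _ _).symm.trans
        ((congrArg (· ≫ c.π.app j.left) he).trans (Category.assoc _ _ _))
    obtain ⟨vY, hv1, hv2, hbig⟩ := comparison hYj hXj hr1 hr2
    have hXV : IsPullback (rX ∣_ V) ((rX ⁻¹ᵁ V).ι ≫ f) (V.ι ≫ fj) vY :=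
      (isPullback_morphismRestrict rX V).paste_vert hbig
    have hYlim : IsPullback vY g gj (c.π.app j.left) :=
      IsPullback.of_right (by rw [hv1, c.w]; exact hY) hv2 hYj
    have hle : rX ⁻¹ᵁ V ≤ U := fun y hy => by
      have := hVU (show e.hom y ∈ bc.π.app j ⁻¹ᵁ V from hy)
      rwa [SetLike.mem_coe, Scheme.Hom.mem_preimage, ← Scheme.Hom.comp_apply, e.hom_inv_id] at this
    have hPV : P ((rX ⁻¹ᵁ V).ι ≫ f) := by
      rw [← X.homOfLE_ι hle, Category.assoc]
      exact IsZariskiLocalAtSource.comp hU _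
    haveI : LocallyOfFinitePresentation fj := MorphismProperty.of_isPullback hXj ‹_›
    haveI : IsAffine V.toScheme := hV
    obtain ⟨i, φ, Xi, Yi, fi, gi, pYi, pXi, h1, h2, h3⟩ :=
      exists_stage_descend_local P hoi hd hc
        (MorphismProperty.comp_mem @LocallyOfFinitePresentation V.ι fj inferInstance ‹_›)
        hYlim hXV hPV
    haveI : IsAffineHom pYi := MorphismProperty.of_isPullback h1.flip (inferInstance : IsAffineHom (D.map φ))
    let X' := pullback fj pYi
    have hX' := IsPullback.of_hasPullback fj pYi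
    let Yi' := h1.paste_horiz hYj
    let wY : Y ⟶ Yi := Yi'.lift qY (g ≫ c.π.app i) (by
      rw [Category.assoc, ← D.map_comp, c.w]; exact hY.w)
    have hwY : wY ≫ pYi = vY := hYj.hom_ext
      (by rw [Category.assoc, hv1]; exact Yi'.lift_fst _ _ _)
      (by rw [Category.assoc, h1.w, ← Category.assoc, Yi'.lift_snd, Category.assoc, c.w, hv2])
    let r' : X ⟶ X' := hX'.lift rX (f ≫ wY) (hbig.w.trans ((congrArg (f ≫ ·) hwY.symm).trans (Category.assoc _ _ _).symm))
    refine ⟨i, φ ≫ j.hom, X', Yi, pullback.snd fj pYi, gi, pYi ≫ pY, pullback.fst fj pYi ≫ _, r',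
      D.map_comp φ j.hom ▸ Yi', hX'.paste_horiz hXj, ?_, ?_, pullback.fst fj pYi ⁻¹ᵁ V, ?_, ?_⟩
    · rw [← Category.assoc, hX'.lift_fst]; exact hr1
    · rw [← Category.assoc, hX'.lift_snd, Category.assoc, Yi'.lift_snd]
    · show pullback.fst fj pYi (r' x) ∈ V
      rw [← Scheme.Hom.comp_apply, hX'.lift_fst]
      exact hxV
    · have hsq := (isPullback_morphismRestrict (pullback.fst fj pYi) V).paste_vert hX'
      rw [← h2.isoIsPullback_hom_snd _ _ hsq, P.cancel_left_of_respectsIso] at h3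
      exact h3
  · rintro ⟨j, φ, Xj, Yj, fj, gj, pY, pX, rX, hYj, hXj, hr1, hr2, V, hxV, hV⟩
    obtain ⟨vY, -, -, hbig⟩ := comparison hYj hXj hr1 hr2
    exact ⟨rX ⁻¹ᵁ V, hxV, MorphismProperty.of_isPullback
      ((isPullback_morphismRestrict rX V).paste_vert hbig) hV⟩

end Groth.Agent.FibConstr
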