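import Groth.Agent.FibConstr.DescentMain
import Groth.Agent.FibConstr.DescentLocal

/-!
Descent over a quasi-compact stage which need not be quasi-separated, and descent in the shape of
base changes of morphisms over a stage.
-/

set_option autoImplicit false
set_option backward.isDefEq.respectTransparency.types false

universe u

open AlgebraicGeometry CategoryTheory Limits

namespace Groth.Agent.FibConstr

variable {I : Type u} [SmallCategory I] [IsCofiltered I] {D : I ⥤ Scheme.{u}}
  [∀ {i j : I} (f : i ⟶ j), IsAffineHom (D.map f)] {c : Cone D}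

/-- A descent statement for qcqs schemes gives one for qcqs morphisms over a quasi-compact stage. -/
theorem exists_stage_of_qc {H P : MorphismProperty Scheme.{u}} [H.IsStableUnderBaseChange]
    [P.IsStableUnderBaseChange] [IsZariskiLocalAtTarget P]
    (core : ∀ {J : Type u} [SmallCategory J] [IsCofiltered J] {D' : J ⥤ Scheme.{u}}
      [∀ {a b : J} (f : a ⟶ b), IsAffineHom (D'.map f)] {c' : Cone D'} (_ : IsLimit c') {o : J}
      [CompactSpace (D'.obj o)] [QuasiSeparatedSpace (D'.obj o)] {Z : Scheme.{u}} [CompactSpace Z]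
      [QuasiSeparatedSpace Z] (h : Z ⟶ D'.obj o), H h → P (pullback.fst (c'.π.app o) h) →
        ∃ j : Over o, P (pullback.fst (D'.map j.hom) h))
    (hc : IsLimit c) {i : I} [CompactSpace (D.obj i)] {Z : Scheme.{u}} (h : Z ⟶ D.obj i)
    [QuasiCompact h] [QuasiSeparated h] (hH : H h) (hl : P (pullback.fst (c.π.app i) h)) :
    ∃ j : Over i, P (pullback.fst (D.map j.hom) h) := by
  have hpiece : ∀ W : (D.obj i).affineOpens, ∃ j : Over i, ∀ k, (k ⟶ j) →
      P (pullback.fst (D.map k.hom) h ∣_ (D.map k.hom ⁻¹ᵁ W.1)) := by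
    rintro ⟨W, hW⟩
    haveI : ∀ j : Over i, IsAffine ((opensDiagram D i W).obj j) := fun j => hW.preimage (D.map _)
    let o : Over i := Over.mk (𝟙 i)
    let ιo : (opensDiagram D i W).obj o ⟶ D.obj i := (opensDiagramι D i W).app o ≫ D.map o.hom
    have w : (opensCone D c i W).π.app o ≫ ιo = (c.π.app i ⁻¹ᵁ W).ι ≫ c.π.app i := by
      simp [ιo, o]
      exact Scheme.Hom.resLE_comp_ι _ _
    let h' := pullback.fst ιo h
    haveI : QuasiCompact h' := MorphismProperty.pullback_fst _ _ ‹QuasiCompact h›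
    haveI : QuasiSeparated h' := MorphismProperty.pullback_fst _ _ ‹QuasiSeparated h›
    haveI : CompactSpace (pullback ιo h : Scheme.{u}) := QuasiCompact.compactSpace_of_compactSpace h'
    haveI : QuasiSeparatedSpace (pullback ιo h : Scheme.{u}) := quasiSeparatedSpace_of_quasiSeparated h'
    have hl' : P (pullback.fst ((opensCone D c i W).π.app o) h') := by
      rw [prop_fst_fst_iff P]
      exact (prop_fst_congr P w h).2 (prop_fst_comp P _ _ _ hl)
    obtain ⟨m, hm⟩ := core (isLimitOpensCone D c hc i W) h' (MorphismProperty.pullback_fst _ _ hH) hl'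
    rw [prop_fst_fst_iff P] at hm
    refine ⟨m.left, fun k ψ => ?_⟩
    have h1 := prop_fst_comp P ((opensDiagram D i W).map ψ) _ h hm
    refine (prop_fst_iff_of_isPullback P
      ((isPullback_morphismRestrict (pullback.fst (D.map k.hom) h) (D.map k.hom ⁻¹ᵁ W)).paste_vert
        (IsPullback.of_hasPullback (D.map k.hom) h))).2 ((prop_fst_congr P ?_ h).1 h1)
    have hk : ψ.left ≫ m.hom.left ≫ o.hom = k.hom := by
      rw [Over.w m.hom]; exact Over.w ψ
    refine (resLE_resLE_ι (D.map ψ.left) (D.map m.hom.left) (D.map o.hom) _ _).trans ?_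
    exact congrArg (_ ≫ ·) (((congrArg (_ ≫ ·) (D.map_comp _ _).symm).trans (D.map_comp _ _).symm).trans
      (congrArg D.map hk))
  choose j hj using hpiece
  obtain ⟨s, hsf, hs⟩ := ((D.obj i).isBasis_affineOpens).exists_finite_of_isCompact
    (U := (⊤ : (D.obj i).Opens)) (by simpa using isCompact_univ)
  classical
  haveI : Nonempty (Over i) := ⟨Over.mk (𝟙 i)⟩
  let J₀ : {W // W ∈ hs.1.toFinset} → Over i := fun W => j ⟨W.1, hsf (hs.1.mem_toFinset.1 W.2)⟩
  obtain ⟨m, hm⟩ := IsCofiltered.inf_objs_exists (hs.1.toFinset.attach.image J₀)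
  refine ⟨m, IsZariskiLocalAtTarget.of_iSup_eq_top (fun W : s => D.map m.hom ⁻¹ᵁ W.1) ?_ fun W => ?_⟩
  · rw [← Scheme.Hom.preimage_iSup, ← sSup_eq_iSup', ← hs.2]
    rfl
  · exact hj ⟨W.1, hsf W.2⟩ m (hm (Finset.mem_image.2
      ⟨⟨W.1, hs.1.mem_toFinset.2 W.2⟩, Finset.mem_attach _ _, rfl⟩)).some

/-- Descent of closed immersions over a quasi-compact stage. -/
theorem exists_stage_isClosedImmersion_qc (hc : IsLimit c) {i : I} [CompactSpace (D.obj i)]
    {Z : Scheme.{u}} (h : Z ⟶ D.obj i) [QuasiCompact h] [QuasiSeparated h]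
    (hH : LocallyOfFiniteType h) (hl : IsClosedImmersion (pullback.fst (c.π.app i) h)) :
    ∃ j : Over i, IsClosedImmersion (pullback.fst (D.map j.hom) h) :=
  exists_stage_of_qc (fun hc' _ _ _ _ _ _ h hH hl => exists_stage_isClosedImmersion hc' h hH hl)
    hc h hH hl

/-- Descent of open immersions over a quasi-compact stage. -/
theorem exists_stage_isOpenImmersion_qc (hc : IsLimit c) {i : I} [CompactSpace (D.obj i)]
    {Z : Scheme.{u}} (h : Z ⟶ D.obj i) [QuasiCompact h] [QuasiSeparated h]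
    (hH : LocallyOfFinitePresentation h) (hl : IsOpenImmersion (pullback.fst (c.π.app i) h)) :
    ∃ j : Over i, IsOpenImmersion (pullback.fst (D.map j.hom) h) :=
  exists_stage_of_qc (fun hc' _ _ _ _ _ _ h hH hl => exists_stage_isOpenImmersion hc' h hH hl)
    hc h hH hl

/-- Descent of isomorphisms over a quasi-compact stage. -/
theorem exists_stage_isIso_qc (hc : IsLimit c) {i : I} [CompactSpace (D.obj i)]
    {Z : Scheme.{u}} (h : Z ⟶ D.obj i) [QuasiCompact h] [QuasiSeparated h]
    (hH : LocallyOfFinitePresentation h) (hl : IsIso (pullback.fst (c.π.app i) h)) :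
    ∃ j : Over i, IsIso (pullback.fst (D.map j.hom) h) :=
  exists_stage_of_qc (P := MorphismProperty.isomorphisms Scheme)
    (fun hc' _ _ _ _ _ _ h hH hl => exists_stage_isIso hc' h hH hl) hc h hH hl

/-- Descent of local properties, for base changes of morphisms over a stage. -/
theorem exists_stage_descend_local (P : MorphismProperty Scheme.{u}) [P.IsStableUnderBaseChange]
    [P.IsStableUnderComposition] [IsZariskiLocalAtSource P] [IsZariskiLocalAtTarget P]
    (hoi : ∀ {A B : Scheme.{u}} (f : A ⟶ B) [IsOpenImmersion f], P f)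
    (hd : AffineDescends @LocallyOfFinitePresentation P) (hc : IsLimit c) {i₀ : I}
    {X₀ Y₀ X Y : Scheme.{u}} [CompactSpace X₀] {f₀ : X₀ ⟶ Y₀} {g₀ : Y₀ ⟶ D.obj i₀} {f : X ⟶ Y}
    {g : Y ⟶ c.pt} {qY : Y ⟶ Y₀} {qX : X ⟶ X₀} (hH : LocallyOfFinitePresentation f₀)
    (hY : IsPullback qY g g₀ (c.π.app i₀)) (hX : IsPullback qX f f₀ qY) (hP : P f) :
    ∃ (i : I) (φ : i ⟶ i₀) (Xi Yi : Scheme.{u}) (fi : Xi ⟶ Yi) (gi : Yi ⟶ D.obj i) (pY : Yi ⟶ Y₀)
      (pX : Xi ⟶ X₀), IsPullback pY gi g₀ (D.map φ) ∧ IsPullback pX fi f₀ pY ∧ P fi := by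
  refine exists_stage_of_target P hY hX hP fun h he hl => ?_
  let o : Over i₀ := Over.mk (𝟙 i₀)
  haveI : IsIso (D.map o.hom) := by
    show IsIso (D.map (𝟙 i₀))
    rw [D.map_id]; infer_instance
  let E : (LimLib.bcDiagram D g₀).obj o ≅ Y₀ :=
    @asIso _ _ _ _ (pullback.snd (D.map o.hom) g₀)
      (IsPullback.of_hasPullback (D.map o.hom) g₀).isIso_snd_of_isIso
  refine exists_stage_of_local P hoi hd (LimLib.isLimitBcCone g₀ hc) h ?_ hl
  exact (MorphismProperty.arrow_mk_iso_iff @LocallyOfFinitePresentation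
    (Arrow.isoMk (f := Arrow.mk h) (g := Arrow.mk f₀) (Iso.refl _) E
      ((Category.id_comp _).trans he.symm))).2 hH

end Groth.Agent.FibConstr
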