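import Groth.Agent.FibConstr.Basic
import Groth.Agent.FibConstr.FibreMap
import Groth.Agent.FibConstr.Cons
import Groth.Agent.CohFinite.Generic
import Groth.Agent.GenericFinite.Basic
import Groth.Prelude.Def_EGA4Misc

/-!
Properties of morphisms of algebraic schemes defined through all fibres.
-/

set_option autoImplicit false
set_option backward.isDefEq.respectTransparency.types false

universe u

open AlgebraicGeometry CategoryTheory Limits Topology TopologicalSpace

namespace Groth.Agent.FibConstr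

variable {P : ∀ ⦃Y T : Scheme.{u}⦄, (Y ⟶ T) → Prop}

/-- A field-stable property of fibres is invariant under base change. -/
theorem prop_fibre_bc (hP : ConsProp.IsFieldStable P) {X Y X' Y' : Scheme.{u}} {f : X ⟶ Y} {g : Y' ⟶ Y}
    {f' : X' ⟶ Y'} {g' : X' ⟶ X} (h : IsPullback g' f' f g) [LocallyOfFiniteType f] [QuasiCompact f] (y : Y') :
    P (f'.fiberToSpecResidueField y) ↔ P (f.fiberToSpecResidueField (g y)) := by
  exact (@hP _ _ _ _ (f.fiberToSpecResidueField (g y)) _ _ _ inferInstance inferInstance inferInstance inferInstance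
    (MorphismProperty.pullback_snd _ _ inferInstance) (MorphismProperty.pullback_snd _ _ inferInstance)
    (isPullback_fiberToSpecResidueField_of_isPullback h y)).symm

/-- The fibres of the morphism induced on a fibre over the base are the fibres of the morphism. -/
theorem forall_fibre_fiberMap_iff (hP : ConsProp.IsFieldStable P) {X Y S : Scheme.{u}} (f : X ⟶ Y) (g : Y ⟶ S)
    [LocallyOfFiniteType f] [QuasiCompact f] (s : S) :
    (∀ z : g.fiber s, P ((MoreMor.fiberMap f g s).fiberToSpecResidueField z)) ↔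
      ∀ y : Y, g y = s → P (f.fiberToSpecResidueField y) := by
  have hb := fun z => prop_fibre_bc hP (isPullback_fiberMap f g s) z
  constructor
  · intro h y hy
    obtain ⟨z, rfl⟩ : y ∈ Set.range (g.fiberι s) := by rw [Scheme.Hom.range_fiberι]; exact hy
    exact (hb z).1 (h z)
  · intro h z
    refine (hb z).2 (h _ ?_)
    have : g.fiberι s z ∈ Set.range (g.fiberι s) := ⟨z, rfl⟩
    rwa [Scheme.Hom.range_fiberι] at this

theorem isFieldStableMor_forall_fibre (hP : ConsProp.IsFieldStable P) :
    ConsProp.IsFieldStableMor (fun _ Y _ f _ => ∀ y : ↥Y, P (Scheme.Hom.fiberToSpecResidueField f y)) := by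
  intro X X' Y Y' T T' f g f' g' eX eY h _ _ _ _ _ _ _ _ hY hX
  haveI : QuasiSeparated g := by
    haveI : IsLocallyNoetherian T := isLocallyNoetherian_of_point T
    haveI : IsLocallyNoetherian Y := LocallyOfFiniteType.isLocallyNoetherian g
    infer_instance
  haveI : LocallyOfFiniteType f := locallyOfFiniteType_of_comp f g
  haveI : QuasiCompact f := QuasiCompact.of_comp f g
  haveI : Nonempty ↥T' := inferInstance
  haveI : Surjective h := ⟨fun t => ⟨Classical.arbitrary _, Subsingleton.elim _ _⟩⟩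
  haveI : Surjective eY := MorphismProperty.of_isPullback hY.flip ‹Surjective h›
  refine ⟨fun H y' => (prop_fibre_bc hP hX y').2 (H _), fun H y => ?_⟩
  obtain ⟨y', rfl⟩ := eY.surjective y
  exact (prop_fibre_bc hP hX y').1 (H y')

/-- The generic alternative of a constructible property on an irreducible closed subset. -/
theorem exists_generic_alternative (hPs : ConsProp.IsFieldStable P)
    {X Y : Scheme.{u}} (f : X ⟶ Y) [IsNoetherian Y] [LocallyOfFiniteType f] [QuasiCompact f] {Z : Set Y}
    (hZ : IsClosed Z) (hirr : IsIrreducible Z) :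
    ∃ (Z' : Scheme.{u}) (i : Z' ⟶ Y) (_ : IsIntegral Z') (_ : IsNoetherian Z') (X' : Scheme.{u}) (f' : X' ⟶ Z')
      (_ : LocallyOfFiniteType f') (_ : QuasiCompact f'), IsClosedImmersion i ∧ Set.range i = Z ∧
        ∀ z, P (f'.fiberToSpecResidueField z) ↔ P (f.fiberToSpecResidueField (i z)) := by
  let I := Scheme.IdealSheafData.vanishingIdeal (⟨Z, hZ⟩ : Closeds Y)
  let i := I.subschemeι
  have hri : Set.range i = Z := by
    rw [Scheme.IdealSheafData.range_subschemeι, Scheme.IdealSheafData.coe_support_vanishingIdeal]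
    rfl
  haveI : IsNoetherian I.subscheme :=
    { __ := LocallyOfFiniteType.isLocallyNoetherian i
      __ := QuasiCompact.compactSpace_of_compactSpace i }
  haveI : IsReduced I.subscheme := CohFinite.isReduced_vanishingIdeal _
  haveI : IrreducibleSpace I.subscheme := by
    let e : I.subscheme ≃ₜ (Z : Set Y) := i.isClosedEmbedding.isEmbedding.toHomeomorph.trans (.setCongr hri)
    have : IrreducibleSpace (Z : Set Y) := Subtype.irreducibleSpace hirr
    exact e.symm.surjective.irreducibleSpace e.symm.continuous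
  haveI : IsIntegral I.subscheme := isIntegral_of_irreducibleSpace_of_isReduced _
  have hpb := IsPullback.of_hasPullback f i
  exact ⟨I.subscheme, i, inferInstance, inferInstance, pullback f i, pullback.snd f i, inferInstance, inferInstance,
    inferInstance, hri, fun z => prop_fibre_bc hPs hpb z⟩

theorem isConstructible_locus (hP : ConsProp.IsCons P) {X Y : Scheme.{u}} (f : X ⟶ Y) [IsNoetherian Y]
    [LocallyOfFiniteType f] [QuasiCompact f] : IsConstructible (ConsProp.locus P f) := by
  refine isConstructible_of_generic _ fun Z hZ hirr => ?_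
  obtain ⟨Z', i, _, _, X', f', _, _, _, hri, hiff⟩ := exists_generic_alternative hP.1 f hZ hirr
  rcases hP.2 f' with ⟨v, hv⟩ | ⟨v, hv⟩
  all_goals obtain ⟨U, hU, hUV⟩ := i.isClosedEmbedding.isEmbedding.isOpen_iff.1 isOpen_interior
  all_goals refine ⟨U, hU, ⟨i v, hri.le ⟨v, rfl⟩, hUV.ge hv⟩, ?_⟩
  · refine Or.inl fun z hz => ?_
    obtain ⟨w, rfl⟩ := hri.ge hz.1
    exact (hiff w).1 (interior_subset (hUV.le hz.2) : w ∈ ConsProp.locus P f')
  · refine Or.inr (Set.disjoint_left.2 fun z hz hzP => ?_)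
    obtain ⟨w, rfl⟩ := hri.ge hz.1
    exact interior_subset (s := (ConsProp.locus P f')ᶜ) (hUV.le hz.2) ((hiff w).2 hzP)

theorem exists_nhd_forall_fibre (hP : ConsProp.IsIndCons P) {X Y S : Scheme.{u}} (f : X ⟶ Y) (g : Y ⟶ S)
    [IrreducibleSpace S] [IsNoetherian Y] [LocallyOfFiniteType f] [QuasiCompact f] [LocallyOfFiniteType g]
    [QuasiCompact g] (h : ∀ y : Y, g y = genericPoint S → P (f.fiberToSpecResidueField y)) :
    ∃ V : S.Opens, genericPoint S ∈ V ∧ ∀ y : Y, g y ∈ V → P (f.fiberToSpecResidueField y) := by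
  suffices key : ∀ Z : Closeds Y, ∃ V : S.Opens, genericPoint S ∈ V ∧
      ∀ y ∈ Z, g y ∈ V → P (f.fiberToSpecResidueField y) by
    obtain ⟨V, h1, h2⟩ := key ⊤
    exact ⟨V, h1, fun y => h2 y trivial⟩
  intro Z
  induction Z using WellFoundedLT.induction with
  | ind Z ih =>
    rcases Set.eq_empty_or_nonempty (Z : Set Y) with he | hne
    · exact ⟨⊤, trivial, fun y (hy : y ∈ (Z : Set Y)) => absurd hy (by rw [he]; exact Set.notMem_empty y)⟩
    by_cases hpi : IsPreirreducible (Z : Set Y)
    · obtain ⟨Z', i, _, _, X', f', _, _, _, hri, hiff⟩ := exists_generic_alternative hP.1 f Z.isClosed ⟨hne, hpi⟩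
      by_cases hη : g (i (genericPoint Z')) = genericPoint S
      · obtain ⟨v, hv⟩ := hP.2 f' ((hiff _).2 (h _ hη))
        obtain ⟨U, hU, hUV⟩ := i.isClosedEmbedding.isEmbedding.isOpen_iff.1 (isOpen_interior (s := ConsProp.locus P f'))
        let Z₁ : Closeds Y := ⟨(Z : Set Y) ∩ Uᶜ, Z.isClosed.inter hU.isClosed_compl⟩
        have hlt : Z₁ < Z := lt_of_le_of_ne (fun z hz => hz.1) fun e =>
          (e.symm ▸ hri.le ⟨v, rfl⟩ : i v ∈ (Z₁ : Set Y)).2 (hUV.ge hv)
        obtain ⟨V, h1, h2⟩ := ih Z₁ hlt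
        refine ⟨V, h1, fun y hy hyV => ?_⟩
        by_cases hyU : y ∈ U
        · obtain ⟨w, rfl⟩ := hri.ge hy
          exact (hiff w).1 (interior_subset (hUV.le hyU) : w ∈ ConsProp.locus P f')
        · exact h2 y ⟨hy, hyU⟩ hyV
      · have hall : ∀ y ∈ (Z : Set Y), g y ≠ genericPoint S := by
          intro y hy e
          obtain ⟨w, rfl⟩ := hri.ge hy
          have hsp : g (i (genericPoint Z')) ⤳ g (i w) :=
            (((genericPoint_spec Z').specializes (Set.mem_univ w)).map i.continuous).map g.continuous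
          rw [e] at hsp
          exact hη (hsp.antisymm (genericPoint_specializes _)).eq
        obtain ⟨V, -, hV1, hV2⟩ := GenericFinite.exists_nhd_disjoint g
          (fun b hb => (hb.antisymm (genericPoint_specializes b)).eq) Z.isClosed hall
        exact ⟨V, hV1, fun y hy hyV => absurd hyV (hV2 y hy)⟩
    · rw [isPreirreducible_iff_isClosed_union_isClosed] at hpi
      push Not at hpi
      obtain ⟨A, B, hA, hB, hsub, hnA, hnB⟩ := hpi
      let ZA : Closeds Y := ⟨(Z : Set Y) ∩ A, Z.isClosed.inter hA⟩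
      let ZB : Closeds Y := ⟨(Z : Set Y) ∩ B, Z.isClosed.inter hB⟩
      obtain ⟨VA, hA1, hA2⟩ := ih ZA (lt_of_le_of_ne (fun z hz => hz.1) fun e => hnA fun z hz =>
        ((e.symm ▸ hz : z ∈ (ZA : Set Y))).2)
      obtain ⟨VB, hB1, hB2⟩ := ih ZB (lt_of_le_of_ne (fun z hz => hz.1) fun e => hnB fun z hz =>
        ((e.symm ▸ hz : z ∈ (ZB : Set Y))).2)
      exact ⟨VA ⊓ VB, ⟨hA1, hB1⟩, fun y hy hyV =>
        (hsub hy).elim (fun h' => hA2 y ⟨hy, h'⟩ hyV.1) fun h' => hB2 y ⟨hy, h'⟩ hyV.2⟩

end Groth.Agent.FibConstr
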