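import Groth.Agent.FibConstr.Dim
import Groth.Agent.GenericFibreSpread.GeomRed
import Groth.Agent.GeomFibre.Descent

/-!
Geometric reducedness of fibres as a constructible property.
-/

universe u

open AlgebraicGeometry CategoryTheory Limits Topology

namespace Groth.Agent.FibConstr

variable {X Y : Scheme.{u}}

theorem geometricallyReduced_fibre_iff (f : X ⟶ Y) (y : Y) :
    GeometricallyReduced (f.fiberToSpecResidueField y) ↔
      ∀ (E : Type u) [Field E] (s : Spec (CommRingCat.of E) ⟶ Y), s (IsLocalRing.closedPoint E) = y →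
        IsReduced (pullback f s) := by
  constructor
  · intro h E _ s hs
    obtain ⟨⟨z, φ⟩, rfl⟩ := (Scheme.SpecToEquivOfField E Y).symm.surjective s
    obtain rfl : z = y := by
      rw [← hs]
      show z = (Spec.map φ ≫ Y.fromSpecResidueField z) _
      rw [Scheme.Hom.comp_apply, Scheme.fromSpecResidueField_apply]
    have : IsReduced (pullback (pullback.snd f (Y.fromSpecResidueField z)) (Spec.map φ)) :=
      pullback_of_geometrically h.geometrically_isReduced _ _
    exact isReduced_of_isOpenImmersion (pullbackLeftPullbackSndIso f (Y.fromSpecResidueField z) (Spec.map φ)).inv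
  · intro h
    refine ⟨geometrically_iff_of_isClosedUnderIsomorphisms.mpr fun E _ y' => ?_⟩
    have := h E (y' ≫ Y.fromSpecResidueField y)
      ((Scheme.Hom.comp_apply _ _ _).trans (Scheme.fromSpecResidueField_apply _ _))
    exact isReduced_of_isOpenImmersion (pullbackLeftPullbackSndIso f (Y.fromSpecResidueField y) y').hom

theorem spreads_geometricallyReduced :
    Spreads fun _ _ f y => GeometricallyReduced (Scheme.Hom.fiberToSpecResidueField f y) where
  bc _ _ _ _ f g f' g' h _ y :=
    GeomFibre.geometrically_fiber_iff (P := IsReduced) @GeometricallyReduced GeometricallyReduced.eq_geometrically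
      (fun _ _ p _ _ hz => haveI := hz; GeomFibre.isReduced_of_flat_surjective p) f g f' g' h y
  spread X Y f _ _ _ _ := by
    by_cases h : GeometricallyReduced (f.fiberToSpecResidueField (genericPoint Y))
    · obtain ⟨V, hne, hV⟩ := GenericFibreSpread.exists_geometricallyReduced_restrict f h
      refine ⟨V, hne, Or.inl fun y hy => ?_⟩
      have h1 : GeometricallyReduced ((f ∣_ V).fiberToSpecResidueField ⟨y, hy⟩) :=
        MorphismProperty.pullback_snd (P := @GeometricallyReduced) _ _ hV
      exact (GeomFibre.geometrically_fiber_iff (P := IsReduced) @GeometricallyReduced GeometricallyReduced.eq_geometrically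
        (fun _ _ p _ _ hz => haveI := hz; GeomFibre.isReduced_of_flat_surjective p) f V.ι (f ∣_ V) (f ⁻¹ᵁ V).ι
        (isPullback_morphismRestrict f V).flip ⟨y, hy⟩).1 h1
    · obtain ⟨V, hne, hV⟩ := GenericFibreSpread.exists_not_geometricallyReduced_fibre f h
      exact ⟨V, hne, Or.inr hV⟩

theorem geometricallyReduced_fibre_iff_forall (f : X ⟶ Y) {V : Y.Opens} {t : Finset X.affineOpens}
    (ht : ∀ U ∈ t, (U : X.Opens) ≤ f ⁻¹ᵁ V) (hcov : ∀ x, f x ∈ V → ∃ U ∈ t, x ∈ (U : X.Opens))
    (y : (V : Scheme.{u})) :
    GeometricallyReduced (f.fiberToSpecResidueField y.1) ↔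
      ∀ U : t, GeometricallyReduced ((f.resLE V U.1.1 (ht _ U.2)).fiberToSpecResidueField y) := by
  simp only [geometricallyReduced_fibre_iff]
  have hmap : ∀ (U : t) (E : Type u) [Field E] (s : Spec (CommRingCat.of E) ⟶ V),
      ∃ j : pullback (f.resLE V U.1.1 (ht _ U.2)) s ⟶ pullback f (s ≫ V.ι), IsOpenImmersion j ∧
        Set.range j = pullback.fst f (s ≫ V.ι) ⁻¹' (U.1.1 : Set X) := fun U E _ s => by
    refine ⟨pullback.map _ _ _ _ U.1.1.ι (𝟙 _) V.ι (Scheme.Hom.resLE_comp_ι f _) (Category.id_comp _).symm,
      inferInstance, ?_⟩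
    rw [Scheme.Pullback.range_map]
    simp
  constructor
  · intro h U E _ s hs
    have hr := h E (s ≫ V.ι) (by rw [Scheme.Hom.comp_apply, hs]; rfl)
    obtain ⟨j, hj, -⟩ := hmap U E s
    exact isReduced_of_isOpenImmersion j
  · intro h E _ s hs
    have hrange : Set.range s ⊆ Set.range V.ι := by
      rintro _ ⟨p, rfl⟩
      rw [Scheme.Opens.range_ι, Subsingleton.elim (α := Spec (CommRingCat.of E)) p (IsLocalRing.closedPoint E), hs]
      exact y.2
    let s' := IsOpenImmersion.lift V.ι s hrange
    have hfac : s' ≫ V.ι = s := IsOpenImmersion.lift_fac _ _ _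
    rw [← hfac]
    have hs' : s' (IsLocalRing.closedPoint E) = y := V.ι.isOpenEmbedding.injective (by
      rw [← Scheme.Hom.comp_apply, hfac, hs]; rfl)
    refine @isReduced_of_isReduced_stalk _ fun w => ?_
    have hw : f (pullback.fst f (s' ≫ V.ι) w) ∈ V := by
      rw [← Scheme.Hom.comp_apply, pullback.condition, Scheme.Hom.comp_apply, Scheme.Hom.comp_apply]
      exact (s' _).2
    obtain ⟨U, hU, hwU⟩ := hcov _ hw
    obtain ⟨j, hj, hjr⟩ := hmap ⟨U, hU⟩ E s'
    obtain ⟨q, rfl⟩ := hjr.ge hwU
    have := h ⟨U, hU⟩ E s' hs'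
    exact isReduced_of_injective (j.stalkMap q).hom (asIso (j.stalkMap q)).commRingCatIsoToRingEquiv.injective

/-- The locus of geometrically reduced fibres is locally constructible. -/
theorem isLocallyConstructible_geometricallyReduced (f : X ⟶ Y) [QuasiCompact f] [LocallyOfFinitePresentation f] :
    IsLocallyConstructible {y : Y | GeometricallyReduced (f.fiberToSpecResidueField y)} := by
  refine IsLocallyConstructible.of_isOpenCover (U := fun V : Y.affineOpens => (V : Y.Opens)) (iSup_affineOpens_eq_top Y) ?_
  intro V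
  obtain ⟨t, ht, hcov⟩ := FibreND.exists_finite_cover f V.2
  refine (congrArg IsLocallyConstructible (?_ : _ =
      ⋂ U : t, {y : (V : Y.Opens) | GeometricallyReduced ((f.resLE V U.1.1 (ht _ U.2)).fiberToSpecResidueField y)})).mpr ?_
  · exact Set.ext fun y => (geometricallyReduced_fibre_iff_forall f ht hcov y).trans
      (Set.mem_iInter (s := fun U : t => {y : (V : Y.Opens) | GeometricallyReduced ((f.resLE V U.1.1 (ht _ U.2)).fiberToSpecResidueField y)}) (x := y)).symm
  exact IsLocallyConstructible.iInter fun U => isLocallyConstructible_resLE spreads_geometricallyReduced f V.2 U.1.2 (ht _ U.2)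

end Groth.Agent.FibConstr
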