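import Groth.Agent.NoethApprox.Basic
import Groth.Agent.FlatDescent.CMFibre.Affine

/-!
Noetherian models of pairs of composable morphisms of finite presentation between affine schemes.
-/

set_option autoImplicit false

universe u

open AlgebraicGeometry CategoryTheory Limits
open scoped TensorProduct
open Groth.FlatDescent.CMFibre

namespace Groth.Agent.FibConstr

theorem isPullback_of_tensorEquiv {A B A₀ B₀ : Type u} [CommRing A] [CommRing B] [Algebra A B] [CommRing A₀]
    [CommRing B₀] [Algebra A₀ A] [Algebra A₀ B₀] (e : A ⊗[A₀] B₀ ≃ₐ[A] B) (b : B₀ →+* B)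
    (hb : ∀ y, b y = e (1 ⊗ₜ y)) :
    IsPullback (Spec.map (CommRingCat.ofHom b)) (algSpec A B) (algSpec A₀ B₀) (algSpec A₀ A) := by
  let eC : CommRingCat.of (A ⊗[A₀] B₀) ≅ CommRingCat.of B :=
    @RingEquiv.toCommRingCatIso (A ⊗[A₀] B₀) B _ _ e.toRingEquiv
  let E := Spec.map eC.hom
  have hE : IsPullback E (algSpec A B) (algSpec A (A ⊗[A₀] B₀)) (𝟙 _) :=
    IsPullback.of_horiz_isIso ⟨by
      rw [Category.comp_id, ← Spec.map_comp]
      congr 1
      ext a
      exact e.commutes a⟩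
  have hsq := hE.paste_horiz (isPullback_algSpec A₀ B₀ A)
  rw [Category.id_comp] at hsq
  convert hsq using 1
  rw [← Spec.map_comp]
  congr 1
  ext y
  exact hb y

/-- A tower of finitely presented algebras comes from a finitely generated `ℤ`-algebra. -/
theorem exists_pair_model (A C B : Type u) [CommRing A] [CommRing C] [CommRing B] [Algebra A C] [Algebra C B]
    [Algebra.FinitePresentation A C] [Algebra.FinitePresentation C B] :
    ∃ (A₀ C₀ B₀ : Type u) (_ : CommRing A₀) (_ : CommRing C₀) (_ : CommRing B₀) (_ : Algebra A₀ C₀) (_ : Algebra C₀ B₀)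
      (a : A₀ →+* A) (c : C₀ →+* C) (b : B₀ →+* B),
      Algebra.FiniteType ℤ A₀ ∧ Algebra.FiniteType A₀ C₀ ∧ Algebra.FiniteType C₀ B₀ ∧
        IsPullback (Spec.map (CommRingCat.ofHom c)) (algSpec A C) (algSpec A₀ C₀) (Spec.map (CommRingCat.ofHom a)) ∧
        IsPullback (Spec.map (CommRingCat.ofHom b)) (algSpec C B) (algSpec C₀ B₀) (Spec.map (CommRingCat.ofHom c)) := by
  classical
  let Pc := Algebra.Presentation.ofFinitePresentation A C
  let Pb := Algebra.Presentation.ofFinitePresentation C B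
  choose p hp using fun x : C => (⟨Pc.σ x, Pc.aeval_val_σ x⟩ : ∃ p, MvPolynomial.aeval Pc.val p = x)
  let s : Set A := ⋃ x ∈ Pb.coeffs, (p x).coeffs
  have hs : s.Finite := Pb.finite_coeffs.biUnion fun x _ => Finset.finite_toSet _
  let A₀ := Algebra.adjoin Pc.Core s
  haveI : Pc.HasCoeffs A₀ := inferInstance
  haveI : Algebra.FiniteType Pc.Core A₀ := Algebra.FiniteType.adjoin_of_finite hs
  haveI : Algebra.FiniteType ℤ A₀ := Algebra.FiniteType.trans (S := Pc.Core) inferInstance ‹_›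
  let C₀ := Pc.ModelOfHasCoeffs A₀
  let eC := Pc.tensorModelOfHasCoeffsEquiv A₀
  let c : C₀ →+* C := eC.toRingEquiv.toRingHom.comp
    (Algebra.TensorProduct.includeRight : C₀ →ₐ[A₀] A ⊗[A₀] C₀).toRingHom
  letI : Algebra C₀ C := c.toAlgebra
  letI : Algebra C₀ B := ((algebraMap C B).comp c).toAlgebra
  haveI : IsScalarTower C₀ C B := IsScalarTower.of_algebraMap_eq fun _ => rfl
  haveI : Pb.HasCoeffs C₀ := by
    refine ⟨fun x hx => ?_⟩
    have hsub : ((p x).coeffs : Set A) ⊆ Set.range (algebraMap A₀ A) := fun t ht =>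
      ⟨⟨t, Algebra.subset_adjoin (Set.mem_biUnion hx ht)⟩, rfl⟩
    obtain ⟨q, hq⟩ := MvPolynomial.mem_range_map_iff_coeffs_subset.2 hsub
    refine ⟨Ideal.Quotient.mk _ q, ?_⟩
    show eC (1 ⊗ₜ Ideal.Quotient.mk _ q) = x
    rw [Algebra.Presentation.tensorModelOfHasCoeffsEquiv_tmul, map_one, one_mul,
      ← MvPolynomial.aeval_map_algebraMap A, hq, hp]
  let eB := Pb.tensorModelOfHasCoeffsEquiv C₀
  haveI : Algebra.FinitePresentation A₀ C₀ := inferInstance
  haveI : Algebra.FinitePresentation C₀ (Pb.ModelOfHasCoeffs C₀) := inferInstance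
  exact ⟨A₀, C₀, Pb.ModelOfHasCoeffs C₀, inferInstance, inferInstance, inferInstance, inferInstance, inferInstance,
    algebraMap A₀ A, c,
    eB.toRingEquiv.toRingHom.comp (Algebra.TensorProduct.includeRight : Pb.ModelOfHasCoeffs C₀ →ₐ[C₀] C ⊗[C₀] Pb.ModelOfHasCoeffs C₀).toRingHom,
    inferInstance, inferInstance, inferInstance,
    isPullback_of_tensorEquiv eC c (fun _ => rfl), isPullback_of_tensorEquiv eB _ (fun _ => rfl)⟩

end Groth.Agent.FibConstr
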