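import Groth.Agent.FibConstr.PairModel
import Groth.Agent.FibConstr.Basic
import Groth.Agent.CohFinite.Generic
import Groth.Agent.SmoothDense.Generic
import Groth.Agent.GenericFinite.Basic
import Groth.Agent.FlatDescent.Scheme
import Groth.Agent.FibrewiseCrit.Basic

/-!
Constructibility of loci attached to morphisms over a base that are open where the source is flat.
-/

set_option autoImplicit false
set_option backward.isDefEq.respectTransparency.types false

universe u

open AlgebraicGeometry CategoryTheory Limits Topology TopologicalSpace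

namespace Groth.Agent.FibConstr

/-- A locus on the source of a morphism over a base, invariant under base change and open when the
source is flat over the base. -/
structure GoodLocus (L : ∀ ⦃X Y S : Scheme.{u}⦄, (X ⟶ Y) → (Y ⟶ S) → Set X) : Prop where
  bc : ∀ ⦃X Y S X' Y' S' : Scheme.{u}⦄ (f : X ⟶ Y) (g : Y ⟶ S) (f' : X' ⟶ Y') (g' : Y' ⟶ S') (eX : X' ⟶ X)
    (eY : Y' ⟶ Y) (h : S' ⟶ S), IsPullback eY g' g h → IsPullback eX f' f eY →
    LocallyOfFiniteType g → LocallyOfFinitePresentation f → L f' g' = eX ⁻¹' L f g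
  openLeft : ∀ ⦃W X Y S : Scheme.{u}⦄ (j : W ⟶ X) [IsOpenImmersion j] (f : X ⟶ Y) (g : Y ⟶ S),
    LocallyOfFinitePresentation f → LocallyOfFiniteType g → L (j ≫ f) g = j ⁻¹' L f g
  openMid : ∀ ⦃X V Y S : Scheme.{u}⦄ (f : X ⟶ V) (j : V ⟶ Y) [IsOpenImmersion j] (g : Y ⟶ S),
    LocallyOfFinitePresentation f → LocallyOfFiniteType g → L (f ≫ j) g = L f (j ≫ g)
  isOpen : ∀ ⦃X Y S : Scheme.{u}⦄ (f : X ⟶ Y) (g : Y ⟶ S) [LocallyOfFiniteType g] [LocallyOfFinitePresentation f]
    [LocallyOfFinitePresentation (f ≫ g)] [Flat (f ≫ g)], IsOpen (L f g)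

variable {L : ∀ ⦃X Y S : Scheme.{u}⦄, (X ⟶ Y) → (Y ⟶ S) → Set X}

/-- Generic flatness of a morphism of finite type over an integral Noetherian base. -/
theorem exists_open_flat_restrict {X S : Scheme.{u}} (q : X ⟶ S) [IsIntegral S] [IsNoetherian S]
    [LocallyOfFiniteType q] [QuasiCompact q] :
    ∃ V : S.Opens, (V : Set S).Nonempty ∧ Flat (q ∣_ V) := by
  haveI : LocallyOfFinitePresentation q := LocallyOfFinitePresentation.iff_locallyOfFiniteType.2 inferInstance
  obtain ⟨V, -, hη, hV⟩ := GenericFinite.exists_nhd_disjoint q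
    (fun b hb => (hb.antisymm (genericPoint_specializes b)).eq)
    (FlatDescent.isOpen_flatLocus_hom q).isClosed_compl
    (fun x hx he => hx (SmoothDense.flat_stalkMap_genericPoint q x he))
  refine ⟨V, ⟨_, hη⟩, (Flat.iff_flat_stalkMap _).2 fun x => ?_⟩
  exact (RingHom.Flat.respectsIso.arrow_mk_iso_iff (morphismRestrictStalkMap q V x)).2
    (by_contra fun hx => hV _ hx x.2)

theorem isConstructible_of_isNoetherian_rel (hL : GoodLocus L) {X Y S : Scheme.{u}} (f : X ⟶ Y) (g : Y ⟶ S)
    [IsNoetherian S] [LocallyOfFiniteType g] [QuasiCompact g] [LocallyOfFiniteType (f ≫ g)] [QuasiCompact (f ≫ g)] :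
    IsConstructible (L f g) := by
  haveI : IsLocallyNoetherian Y := LocallyOfFiniteType.isLocallyNoetherian g
  haveI : LocallyOfFiniteType f := locallyOfFiniteType_of_comp f g
  haveI : LocallyOfFinitePresentation f := LocallyOfFinitePresentation.iff_locallyOfFiniteType.2 inferInstance
  haveI : IsNoetherian X :=
    { __ := LocallyOfFiniteType.isLocallyNoetherian (f ≫ g)
      __ := QuasiCompact.compactSpace_of_compactSpace (f ≫ g) }
  let q : X → S := ⇑(f ≫ g)
  suffices key : ∀ Z : Closeds S, IsConstructible (L f g ∩ q ⁻¹' Z) by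
    simpa using key ⊤
  intro Z
  induction Z using WellFoundedLT.induction with
  | ind Z ih =>
    rcases Set.eq_empty_or_nonempty (Z : Set S) with he | hne
    · simp [he]
    by_cases hpi : IsPreirreducible (Z : Set S)
    · let I := Scheme.IdealSheafData.vanishingIdeal Z
      let i := I.subschemeι
      have hri : Set.range i = Z := by
        rw [Scheme.IdealSheafData.range_subschemeι, Scheme.IdealSheafData.coe_support_vanishingIdeal]
      haveI : IsNoetherian I.subscheme :=
        { __ := LocallyOfFiniteType.isLocallyNoetherian i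
          __ := QuasiCompact.compactSpace_of_compactSpace i }
      haveI : IsReduced I.subscheme := CohFinite.isReduced_vanishingIdeal Z
      haveI : IrreducibleSpace I.subscheme := by
        let e : I.subscheme ≃ₜ (Z : Set S) := i.isClosedEmbedding.isEmbedding.toHomeomorph.trans (.setCongr hri)
        have : IrreducibleSpace (Z : Set S) := Subtype.irreducibleSpace ⟨hne, hpi⟩
        exact e.symm.surjective.irreducibleSpace e.symm.continuous
      haveI : IsIntegral I.subscheme := isIntegral_of_irreducibleSpace_of_isReduced _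
      let g₁ := pullback.snd g i
      let bY := pullback.fst g i
      let f₁ := pullback.snd f bY
      let bX := pullback.fst f bY
      have hY : IsPullback bY g₁ g i := IsPullback.of_hasPullback g i
      have hX : IsPullback bX f₁ f bY := IsPullback.of_hasPullback f bY
      have hq : IsPullback bX (f₁ ≫ g₁) (f ≫ g) i := hX.paste_vert hY
      haveI : LocallyOfFiniteType (f₁ ≫ g₁) := MorphismProperty.of_isPullback hq inferInstance
      haveI : QuasiCompact (f₁ ≫ g₁) := MorphismProperty.of_isPullback hq inferInstance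
      haveI : IsClosedImmersion bX := MorphismProperty.of_isPullback hq.flip inferInstance
      haveI : IsLocallyNoetherian (pullback g i) := LocallyOfFiniteType.isLocallyNoetherian g₁
      haveI : IsNoetherian (pullback f bY) :=
        { __ := LocallyOfFiniteType.isLocallyNoetherian (f₁ ≫ g₁)
          __ := QuasiCompact.compactSpace_of_compactSpace (f₁ ≫ g₁) }
      obtain ⟨V, ⟨v, hv⟩, hflat⟩ := exists_open_flat_restrict (f₁ ≫ g₁)
      let U₁ : (pullback f bY).Opens := f₁ ⁻¹ᵁ (g₁ ⁻¹ᵁ V)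
      haveI : Flat ((f₁ ∣_ (g₁ ⁻¹ᵁ V)) ≫ (g₁ ∣_ V)) := by rw [← morphismRestrict_comp]; exact hflat
      haveI : LocallyOfFinitePresentation (f₁ ∣_ (g₁ ⁻¹ᵁ V)) :=
        IsZariskiLocalAtTarget.restrict (P := @LocallyOfFinitePresentation) inferInstance _
      haveI : LocallyOfFinitePresentation ((f₁ ∣_ (g₁ ⁻¹ᵁ V)) ≫ (g₁ ∣_ V)) := by
        rw [← morphismRestrict_comp]
        exact IsZariskiLocalAtTarget.restrict (P := @LocallyOfFinitePresentation)
          (LocallyOfFinitePresentation.iff_locallyOfFiniteType.2 inferInstance) _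
      have hop : IsOpen (L f₁ g₁ ∩ (U₁ : Set ↥(pullback f bY))) := by
        have := U₁.ι.isOpenEmbedding.isOpenMap _ (hL.isOpen (f₁ ∣_ (g₁ ⁻¹ᵁ V)) (g₁ ∣_ V))
        rw [hL.bc f₁ g₁ (f₁ ∣_ (g₁ ⁻¹ᵁ V)) (g₁ ∣_ V) U₁.ι (g₁ ⁻¹ᵁ V).ι V.ι (isPullback_morphismRestrict g₁ V).flip
          (isPullback_morphismRestrict f₁ (g₁ ⁻¹ᵁ V)).flip inferInstance inferInstance,
          Set.image_preimage_eq_inter_range, Scheme.Opens.range_ι] at this
        exact this
      have hbc := hL.bc f g f₁ g₁ bX bY i hY hX inferInstance inferInstance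
      obtain ⟨U, hU, hUV⟩ := i.isClosedEmbedding.isEmbedding.isOpen_iff.1 V.2
      have himg : bX '' (L f₁ g₁ ∩ (U₁ : Set ↥(pullback f bY))) = L f g ∩ q ⁻¹' ((Z : Set S) ∩ U) := by
        ext x
        constructor
        · rintro ⟨p, ⟨hp, hpU⟩, rfl⟩
          have hqp : q (bX p) = i ((f₁ ≫ g₁) p) := by
            show (f ≫ g) (bX p) = _
            rw [← Scheme.Hom.comp_apply, hq.w, Scheme.Hom.comp_apply]
          refine ⟨hbc.le hp, ?_⟩
          rw [Set.mem_preimage, hqp]
          exact ⟨hri.le ⟨_, rfl⟩, hUV.ge hpU⟩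
        · rintro ⟨hx, hxZ, hxU⟩
          obtain ⟨w, hw⟩ := hri.ge hxZ
          obtain ⟨p, rfl, hp⟩ := Scheme.exists_preimage_of_isPullback hq x w hw.symm
          refine ⟨p, ⟨hbc.ge hx, ?_⟩, rfl⟩
          show (f₁ ≫ g₁) p ∈ V
          rw [hp]
          refine hUV.le (show i w ∈ U from ?_)
          rw [hw]
          exact hxU
      haveI : LocallyOfFinitePresentation bX := LocallyOfFinitePresentation.iff_locallyOfFiniteType.2 inferInstance
      have hpiece : IsConstructible (L f g ∩ q ⁻¹' ((Z : Set S) ∩ U)) := himg ▸ bX.isConstructible_image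
        (IsRetrocompact.isConstructible hop (fun _ _ _ => NoetherianSpace.isCompact _))
      let Z' : Closeds S := ⟨(Z : Set S) ∩ Uᶜ, Z.isClosed.inter hU.isClosed_compl⟩
      have hlt : Z' < Z := lt_of_le_of_ne (fun z hz => hz.1) fun e =>
        (e.symm ▸ hri.le ⟨v, rfl⟩ : i v ∈ (Z' : Set S)).2 (hUV.ge hv)
      have hsplit : L f g ∩ q ⁻¹' Z = (L f g ∩ q ⁻¹' ((Z : Set S) ∩ U)) ∪ (L f g ∩ q ⁻¹' Z') := by
        ext z
        by_cases hz : q z ∈ U <;> simp [Z', hz]
      rw [hsplit]
      exact hpiece.union (ih Z' hlt)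
    · rw [isPreirreducible_iff_isClosed_union_isClosed] at hpi
      push Not at hpi
      obtain ⟨A, B, hA, hB, hsub, hnA, hnB⟩ := hpi
      let ZA : Closeds S := ⟨(Z : Set S) ∩ A, Z.isClosed.inter hA⟩
      let ZB : Closeds S := ⟨(Z : Set S) ∩ B, Z.isClosed.inter hB⟩
      have hsplit : L f g ∩ q ⁻¹' Z = (L f g ∩ q ⁻¹' ZA) ∪ (L f g ∩ q ⁻¹' ZB) := by
        ext z
        refine ⟨fun hz => (hsub hz.2).imp (fun h' => ⟨hz.1, hz.2, h'⟩) fun h' => ⟨hz.1, hz.2, h'⟩, ?_⟩
        rintro (⟨h1, h2, -⟩ | ⟨h1, h2, -⟩) <;> exact ⟨h1, h2⟩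
      rw [hsplit]
      refine (ih ZA (lt_of_le_of_ne (fun z hz => hz.1) fun e => hnA fun z hz => ?_)).union
        (ih ZB (lt_of_le_of_ne (fun z hz => hz.1) fun e => hnB fun z hz => ?_))
      · exact ((e.symm ▸ hz : z ∈ (ZA : Set S))).2
      · exact ((e.symm ▸ hz : z ∈ (ZB : Set S))).2

/-- Noetherian models of a pair of composable morphisms of affine schemes of finite presentation. -/
theorem exists_pair_approx {X Y S : Scheme.{u}} (f : X ⟶ Y) (g : Y ⟶ S) [IsAffine X] [IsAffine Y] [IsAffine S]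
    [LocallyOfFinitePresentation f] [LocallyOfFinitePresentation g] :
    ∃ (X₀ Y₀ S₀ : Scheme.{u}) (f₀ : X₀ ⟶ Y₀) (g₀ : Y₀ ⟶ S₀) (eX : X ⟶ X₀) (eY : Y ⟶ Y₀) (h : S ⟶ S₀),
      IsPullback eY g g₀ h ∧ IsPullback eX f f₀ eY ∧ IsAffine X₀ ∧ IsAffine Y₀ ∧ IsNoetherian S₀ ∧ IsAffine S₀ ∧
        LocallyOfFiniteType g₀ ∧ LocallyOfFiniteType f₀ := by
  have hg : g.appTop.hom.FinitePresentation :=
    (HasRingHomProperty.iff_of_isAffine (P := @LocallyOfFinitePresentation) (f := g)).mp ‹_›
  have hf : f.appTop.hom.FinitePresentation :=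
    (HasRingHomProperty.iff_of_isAffine (P := @LocallyOfFinitePresentation) (f := f)).mp ‹_›
  algebraize [g.appTop.hom, f.appTop.hom]
  obtain ⟨A₀, C₀, B₀, _, _, _, _, _, a, c, b, hA, hC, hB, hsqY, hsqX⟩ :=
    exists_pair_model Γ(S, ⊤) Γ(Y, ⊤) Γ(X, ⊤)
  haveI : IsNoetherianRing A₀ := Algebra.FiniteType.isNoetherianRing ℤ A₀
  refine ⟨Spec (CommRingCat.of B₀), Spec (CommRingCat.of C₀), Spec (CommRingCat.of A₀),
    Spec.map (CommRingCat.ofHom (algebraMap C₀ B₀)), Spec.map (CommRingCat.ofHom (algebraMap A₀ C₀)),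
    X.isoSpec.hom ≫ Spec.map (CommRingCat.ofHom b), Y.isoSpec.hom ≫ Spec.map (CommRingCat.ofHom c),
    S.isoSpec.hom ≫ Spec.map (CommRingCat.ofHom a), ?_, ?_, inferInstance, inferInstance, inferInstance,
    inferInstance, ?_, ?_⟩
  · exact hsqY.of_iso Y.isoSpec.symm (Iso.refl _) S.isoSpec.symm (Iso.refl _) (by simp)
      (by simp; exact Scheme.isoSpec_inv_naturality g) (by simp) (by simp)
  · exact hsqX.of_iso X.isoSpec.symm (Iso.refl _) Y.isoSpec.symm (Iso.refl _) (by simp)
      (by simp; exact Scheme.isoSpec_inv_naturality f) (by simp) (by simp)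
  · exact (HasRingHomProperty.Spec_iff (P := @LocallyOfFiniteType)).mpr (RingHom.finiteType_algebraMap.mpr hC)
  · exact (HasRingHomProperty.Spec_iff (P := @LocallyOfFiniteType)).mpr (RingHom.finiteType_algebraMap.mpr hB)

theorem isLocallyConstructible_of_isAffine_rel (hL : GoodLocus L) {X Y S : Scheme.{u}} (f : X ⟶ Y) (g : Y ⟶ S)
    [IsAffine X] [IsAffine Y] [IsAffine S] [LocallyOfFinitePresentation f] [LocallyOfFinitePresentation g] :
    IsLocallyConstructible (L f g) := by
  obtain ⟨X₀, Y₀, S₀, f₀, g₀, eX, eY, h, hY, hX, _, _, _, _, hg₀, hf₀⟩ := exists_pair_approx f g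
  haveI : IsLocallyNoetherian Y₀ := LocallyOfFiniteType.isLocallyNoetherian g₀
  haveI : LocallyOfFinitePresentation f₀ := LocallyOfFinitePresentation.iff_locallyOfFiniteType.2 hf₀
  rw [hL.bc f₀ g₀ f g eX eY h hY hX inferInstance inferInstance]
  exact ProConsLib.isLocallyConstructible_preimage eX (isConstructible_of_isNoetherian_rel hL f₀ g₀).isLocallyConstructible

theorem GoodLocus.isLocallyConstructible (hL : GoodLocus L) {X Y S : Scheme.{u}} (f : X ⟶ Y) (g : Y ⟶ S)
    [LocallyOfFinitePresentation g] [LocallyOfFinitePresentation (f ≫ g)] :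
    IsLocallyConstructible (L f g) := by
  haveI : LocallyOfFinitePresentation f := FibrewiseCrit.locallyOfFinitePresentation_of_comp f g inferInstance inferInstance
  intro x
  obtain ⟨_, ⟨U, hU, rfl⟩, hxU, -⟩ := S.isBasis_affineOpens.exists_subset_of_mem_open (Set.mem_univ (g (f x))) isOpen_univ
  obtain ⟨_, ⟨V, hV, rfl⟩, hxV, eV⟩ := Y.isBasis_affineOpens.exists_subset_of_mem_open hxU (g ⁻¹ᵁ U).2
  obtain ⟨_, ⟨W, hW, rfl⟩, hxW, eW⟩ := X.isBasis_affineOpens.exists_subset_of_mem_open hxV (f ⁻¹ᵁ V).2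
  haveI : IsAffine (W : Scheme.{u}) := hW
  haveI : IsAffine (V : Scheme.{u}) := hV
  haveI : IsAffine (U : Scheme.{u}) := hU
  let f' := f.resLE V W eW
  let g' := g.resLE U V eV
  haveI : LocallyOfFinitePresentation f' := by
    show LocallyOfFinitePresentation (f.resLE V W eW)
    delta Scheme.Hom.resLE; infer_instance
  haveI : LocallyOfFinitePresentation g' := by
    show LocallyOfFinitePresentation (g.resLE U V eV)
    delta Scheme.Hom.resLE; infer_instance
  have h1 : (Scheme.Opens.ι W) ⁻¹' L f g = L f' g' := by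
    rw [← hL.openLeft (Scheme.Opens.ι W) f g inferInstance inferInstance, ← Scheme.Hom.resLE_comp_ι f eW,
      hL.openMid f' (Scheme.Opens.ι V) g inferInstance inferInstance, ← Scheme.Hom.resLE_comp_ι g eV,
      hL.bc f' (g' ≫ Scheme.Opens.ι U) f' g' (𝟙 _) (𝟙 _) (Scheme.Opens.ι U) ?_ (IsPullback.of_horiz_isIso ⟨by simp⟩) inferInstance inferInstance]
    · rfl
    · refine ⟨⟨by simp⟩, ⟨PullbackCone.IsLimit.mk _ (fun t => t.fst) (fun t => by simp) (fun t => ?_)
        (fun t v hv _ => by simpa using hv)⟩⟩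
      rw [← cancel_mono (Scheme.Opens.ι U)]
      simpa [g', Category.assoc] using t.condition
  have hlc : IsLocallyConstructible ((Scheme.Opens.ι W) ⁻¹' L f g) := h1 ▸ isLocallyConstructible_of_isAffine_rel hL f' g'
  haveI : QuasiSeparatedSpace (W : Scheme.{u}) := inferInstance
  exact ⟨W, W.2.mem_nhds hxW, W.2, hlc.isConstructible⟩

end Groth.Agent.FibConstr
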